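import Cfsg.Agent.Lib.ThreePrimeSimple.FpfSolvable

/-!
# S3040 from the classification of simple 3'-groups (owner: helper60)

* `solvable_of_fpf_symmetric_three` : the statement of S3040, given `SuzukiOnly`.
* `fixed_point_free_structure` : its structural half needs only solubility.
-/

set_option autoImplicit false
set_option linter.style.haveILetI false

namespace Cfsg.Agent.ThreePrimeSimple

universe u

theorem perm_three_inverts : ∀ x : Equiv.Perm (Fin 3), x * (x * x) = 1 →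
    Equiv.swap 0 1 * x * Equiv.swap 0 1 = x * x := by decide

/-- From a fixed-point-free group of automorphisms isomorphic to `S₃`: the pair `σ, τ`. -/
theorem exists_hyp {G : Type u} [Group G] {Sig : Subgroup (MulAut G)}
    (hS3 : Nonempty (↥Sig ≃* Equiv.Perm (Fin 3))) (hfpf : ∀ g : G, (∀ σ ∈ Sig, σ g = g) → g = 1)
    {σ : MulAut G} (hσ : σ ∈ Sig) (ho : orderOf σ = 3) : ∃ τ, Hyp σ τ := by
  obtain ⟨e⟩ := hS3
  let t : Sig := e.symm (Equiv.swap 0 1)
  let s : Sig := ⟨σ, hσ⟩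
  have hs : orderOf s = 3 := (Subgroup.orderOf_mk σ hσ).trans ho
  have ht2 : t * t = 1 := by
    simp only [t, ← map_mul, Equiv.swap_mul_self, map_one]
  have hto : orderOf t = 2 := by
    rw [MulEquiv.orderOf_eq]
    exact orderOf_eq_prime (p := 2) (by rw [pow_two, Equiv.swap_mul_self]) (by decide)
  have hs3 : s * (s * s) = 1 := by
    rw [← mul_assoc, ← pow_two, ← pow_succ]
    exact orderOf_dvd_iff_pow_eq_one.1 (hs ▸ dvd_rfl)
  have hts : t * s = s * s * t := by
    have h1 : t * s * t = s * s := e.injective (by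
      simp only [t, map_mul, MulEquiv.apply_symm_apply]
      exact perm_three_inverts _ (by rw [← map_mul, ← map_mul, hs3, map_one]))
    rw [← h1, mul_assoc, ht2, mul_one]
  refine ⟨(t : MulAut G), fun g => ?_, fun g => ?_, fun g => ?_, fun g hg hg' => ?_⟩
  · exact congrArg (fun r : Sig => (r : MulAut G) g) hs3
  · exact congrArg (fun r : Sig => (r : MulAut G) g) ht2
  · exact congrArg (fun r : Sig => (r : MulAut G) g) hts
  refine hfpf g ?_
  haveI : Finite Sig := Finite.of_equiv _ e.symm.toEquiv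
  let K : Subgroup Sig := (MulAction.stabilizer (MulAut G) g).comap Sig.subtype
  have h3 : 3 ∣ Nat.card K := hs ▸ Subgroup.orderOf_dvd_natCard K (show s ∈ K from hg)
  have h2 : 2 ∣ Nat.card K := hto ▸ Subgroup.orderOf_dvd_natCard K (show t ∈ K from hg')
  have hK : K = ⊤ := by
    refine Subgroup.eq_top_of_le_card K ?_
    rw [Nat.card_congr e.toEquiv, Nat.card_perm, Nat.card_eq_fintype_card, Fintype.card_fin]
    exact Nat.le_of_dvd Nat.card_pos
      ((Nat.Coprime.mul_dvd_of_dvd_of_dvd (by norm_num) h2 h3 : 2 * 3 ∣ Nat.card K))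
  intro r hr
  exact hK.ge (Subgroup.mem_top (⟨r, hr⟩ : Sig))

theorem exists_order_three {G : Type u} [Group G] {Sig : Subgroup (MulAut G)}
    (hS3 : Nonempty (↥Sig ≃* Equiv.Perm (Fin 3))) : ∃ σ ∈ Sig, orderOf σ = 3 := by
  obtain ⟨e⟩ := hS3
  refine ⟨_, (e.symm (finRotate 3)).2, ?_⟩
  rw [Subgroup.orderOf_coe, MulEquiv.orderOf_eq]
  exact orderOf_eq_prime (p := 3) (by decide) (by decide)

/-- The structural half of S3040 for solvable groups. -/
theorem fixed_point_free_structure {G : Type u} [Group G] [Finite G] [Group.IsSolvable G]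
    (h3 : ¬ 3 ∣ Nat.card G) (Sig : Subgroup (MulAut G))
    (hS3 : Nonempty (↥Sig ≃* Equiv.Perm (Fin 3))) (hfpf : ∀ g : G, (∀ σ ∈ Sig, σ g = g) → g = 1) :
    ¬ 2 ∣ (Cfsg.pPrimePCore 2 G).index ∧ ∀ σ ∈ Sig, orderOf σ = 3 →
      Cfsg.pPrimePCore 2 G ⊔ Subgroup.closure {g : G | σ g = g} = ⊤ := by
  refine ⟨?_, fun σ hσ ho => ?_⟩
  · obtain ⟨σ, hσ, ho⟩ := exists_order_three hS3
    obtain ⟨τ, h⟩ := exists_hyp hS3 hfpf hσ ho
    exact (h.structure_of_solvable h3).1
  · obtain ⟨τ, h⟩ := exists_hyp hS3 hfpf hσ ho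
    exact (h.structure_of_solvable h3).2

/-- A group of order prime to 3 with a fixed-point-free `S₃` (S3040), given Goldschmidt's theorem. -/
theorem solvable_of_fpf_symmetric_three (hC : SuzukiOnly.{u}) {G : Type u} [Group G] [Finite G]
    (h3 : ¬ 3 ∣ Nat.card G) (Sig : Subgroup (MulAut G))
    (hS3 : Nonempty (↥Sig ≃* Equiv.Perm (Fin 3))) (hfpf : ∀ g : G, (∀ σ ∈ Sig, σ g = g) → g = 1) :
    Group.IsSolvable G ∧ ¬ 2 ∣ (Cfsg.pPrimePCore 2 G).index ∧ ∀ σ ∈ Sig, orderOf σ = 3 →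
      Cfsg.pPrimePCore 2 G ⊔ Subgroup.closure {g : G | σ g = g} = ⊤ := by
  obtain ⟨σ, hσ, ho⟩ := exists_order_three hS3
  obtain ⟨τ, h⟩ := exists_hyp hS3 hfpf hσ ho
  haveI := h.isSolvable hC h3
  exact ⟨inferInstance, fixed_point_free_structure h3 Sig hS3 hfpf⟩

end Cfsg.Agent.ThreePrimeSimple
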