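import Cfsg.Agent.Lib.ThreePrimeSimple.Abelian
import Cfsg.Agent.Lib.Bender.Consumers
import Cfsg.Agent.Lib.Bender.RankOneHalf
import Cfsg.Agent.Lib.GLOrder.Basic
import Cfsg.Agent.Lib.Unitary.Center
import Cfsg.Agent.Lib.Suzuki.Simple
import Cfsg.Agent.Lib.SuzukiRankOne.Suzuki.Main
import Cfsg.Agent.S2796

/-!
# Simple groups of order prime to 3 (owner: helper60)

* `Goldschmidt` : the statement of S1169;
* `classify` : from `Step` (a consequence of `Goldschmidt`), every finite non-abelian simple group of order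
  prime to 3 is a Suzuki group.
-/

set_option autoImplicit false

namespace Cfsg.Agent.ThreePrimeSimple

open Subgroup

universe u

/-- Goldschmidt's theorem in the frozen shape. -/
def Goldschmidt : Prop :=
  ∀ (G : Type u) [Group G] [Finite G] [IsSimpleGroup G] (S : Sylow 2 G) (A : Subgroup G), A ≠ ⊥ →
    IsMulCommutative A → Cfsg.IsStronglyClosed A (S : Subgroup G) →
      IsMulCommutative (S : Subgroup G) ∨ ∃ H : Subgroup G, Cfsg.IsStronglyEmbedded H

/-- What is needed of Goldschmidt's theorem: the inductive step for groups of order prime to 3. -/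
def Step : Prop :=
  ∀ (G : Type u) [Group G] [Finite G] [IsSimpleGroup G], (∃ a b : G, a * b ≠ b * a) →
    ¬ 3 ∣ Nat.card G →
    (∀ (X : Type u) [Group X] [Finite X], IsSimpleGroup X → ¬ IsMulCommutative X →
      Nat.card X ∣ Nat.card G → Nat.card X < Nat.card G → Cfsg.Lie.IsoSuzuki X) →
    ∀ (S : Sylow 2 G) (A : Subgroup G), A ≠ ⊥ → Cfsg.IsElementaryAbelian 2 A →
      Cfsg.IsStronglyClosed A (S : Subgroup G) → ¬ IsMulCommutative (S : Subgroup G) →
      ∃ H : Subgroup G, Cfsg.IsStronglyEmbedded H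

theorem step_of_goldschmidt (hG : Goldschmidt.{u}) : Step.{u} :=
  fun G _ _ _ _ _ _ S A hA hel hsc hab => (hG G S A hA hel.1 hsc).resolve_left hab

theorem sec_card {G X : Type u} [Group G] [Group X] [Finite G] (h : FunctorControl.IsSec G X) :
    Nat.card X ∣ Nat.card G := by
  obtain ⟨K, f, hf⟩ := h
  exact (Subgroup.card_dvd_of_surjective f hf).trans (card_subgroup_dvd_card K)

theorem psl_even_three_dvd {F : Type} [Field F] [Fintype F] {n : ℕ} (hn : 1 ≤ n)
    (hF : Fintype.card F = 2 ^ n) : 3 ∣ Nat.card (Matrix.ProjectiveSpecialLinearGroup (Fin 2) F) := by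
  have he : Even (Nat.card F) := by
    rw [Nat.card_eq_fintype_card, hF]; exact Nat.even_pow.2 ⟨even_two, by omega⟩
  rw [GLOrder.card_PSL_two_of_even he]
  have h3 : ¬ 3 ∣ 2 ^ n := fun h => by
    have := Nat.prime_three.dvd_of_dvd_pow h; omega
  refine Dvd.dvd.mul_left ?_ _
  rw [Nat.card_eq_fintype_card, hF]
  generalize 2 ^ n = q at h3
  have : q ^ 2 % 3 = 1 := by
    rw [Nat.pow_mod]
    rcases (show q % 3 = 1 ∨ q % 3 = 2 by omega) with h | h <;> simp [h]
  omega

theorem psu_even_three_dvd {F : Type} [Field F] [Fintype F] {n : ℕ}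
    (hF : Fintype.card F = (2 ^ n) ^ 2) (hn : 1 ≤ n) : 3 ∣ Nat.card (Cfsg.PSU 3 F (2 ^ n)) := by
  have h3' : ¬ 3 ∣ 2 ^ n := fun h => by
    have := Nat.prime_three.dvd_of_dvd_pow h; omega
  have hq : 1 ≤ 2 ^ n := Nat.one_le_two_pow
  have h := Unitary.card_PSU (n := 3) hF (by norm_num)
  generalize 2 ^ n = q at h h3' hq
  simp only [Finset.prod_range_succ, Finset.prod_range_zero, one_mul] at h
  norm_num at h
  have h1 : (q ^ 2 - 1) * (q + 1) * (q ^ 3 * (q ^ 3 + 1)) =
      (q + 1) * (Nat.gcd 3 (q + 1) * Nat.card (Cfsg.PSU 3 F q)) := by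
    rw [mul_left_comm] at h
    rw [h]; ring
  have h2 : (q ^ 2 - 1) * (q ^ 3 * (q ^ 3 + 1)) = Nat.gcd 3 (q + 1) * Nat.card (Cfsg.PSU 3 F q) := by
    refine Nat.eq_of_mul_eq_mul_left (by omega : 0 < q + 1) ?_
    rw [← h1]; ring
  have hsq : 3 ∣ q ^ 2 - 1 := by
    have : q ^ 2 % 3 = 1 := by
      rw [Nat.pow_mod]
      rcases (show q % 3 = 1 ∨ q % 3 = 2 by omega) with h | h <;> simp [h]
    omega
  rcases (Nat.dvd_prime Nat.prime_three).1 (Nat.gcd_dvd_left 3 (q + 1)) with hg | hg
  · rw [hg, one_mul] at h2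
    exact h2 ▸ hsq.mul_right _
  · have h31 : 3 ∣ q + 1 := hg ▸ Nat.gcd_dvd_right 3 (q + 1)
    have hcube : 3 ∣ q ^ 3 + 1 := by
      have : (q + 1) ∣ q ^ 3 + 1 := ⟨q ^ 2 - q + 1, by
        have hle : q ≤ q ^ 2 := Nat.le_self_pow (by norm_num) q
        zify [hle]; ring⟩
      exact h31.trans this
    rw [hg] at h2
    have : 3 * 3 ∣ 3 * Nat.card (Cfsg.PSU 3 F q) := h2 ▸ Nat.mul_dvd_mul hsq (hcube.mul_left _)
    exact Nat.dvd_of_mul_dvd_mul_left (by norm_num) this

theorem isoSuzuki_of_stronglyEmbedded {G : Type u} [Group G] [Finite G] [IsSimpleGroup G]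
    (h3 : ¬ 3 ∣ Nat.card G) {H : Subgroup G}
    (hH : Cfsg.IsStronglyEmbedded H) : Cfsg.Lie.IsoSuzuki G := by
  have hcore := Bender.normalCore_of_simple hH
  have h2 := SuzukiRankOne.two_involutions_of_simple hH
  obtain ⟨t, Q, h⟩ := Bender.rankOneHalf G H hH hcore h2
  haveI := Bender.faithful_of_normalCore hcore
  obtain ⟨L, hL, hodd, hc⟩ := SuzukiRankOne.classify SuzukiRankOne.kernelShape SuzukiRankOne.Suzuki.suzukiShape h h2
  obtain rfl : L = ⊤ := hL.eq_bot_or_eq_top.resolve_left fun e => by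
    rw [e, Subgroup.index_bot] at hodd
    exact Nat.not_even_iff_odd.2 hodd (even_iff_two_dvd.2
      ((Involution.orderOf_of_sq h.mul_self h.ne_one) ▸ orderOf_dvd_natCard t))
  rcases hc with ⟨F, _, _, ⟨n, hn, hF⟩, ⟨e⟩⟩ | ⟨F, _, _, m, hm, hF, ⟨e⟩⟩ | ⟨F, _, _, n, hn, hF, ⟨e⟩⟩
  · exact absurd (Nat.card_congr (Subgroup.topEquiv.symm.trans e).toEquiv ▸
      psl_even_three_dvd (by omega) hF) h3
  · exact ⟨F, _, _, m, hm, hF, ⟨Subgroup.topEquiv.symm.trans e⟩⟩
  · exact absurd (Nat.card_congr (Subgroup.topEquiv.symm.trans e).toEquiv ▸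
      psu_even_three_dvd hF (by omega)) h3

/-- A Suzuki group has non-abelian Sylow 2-subgroups. -/
theorem suzuki_sylow_not_comm {G : Type u} [Group G] [Finite G] (h : Cfsg.Lie.IsoSuzuki G) :
    ∃ P : Subgroup G, IsPGroup 2 P ∧ ¬ IsMulCommutative P := by
  obtain ⟨F, _, _, m, hm, hF, ⟨e⟩⟩ := h
  let eS : G ≃* Cfsg.Sz F m := e.trans (Suzuki.lieEquiv (F := F) hm hF).symm
  refine ⟨(Suzuki.uSub hF).map eS.symm.toMonoidHom, (Suzuki.isPGroup_uSub hF).map _, fun hc => ?_⟩
  haveI := Suzuki.charTwo hF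
  obtain ⟨k, hk⟩ := Suzuki.exists_th_ne hm hF
  have hcomm : Commute (Suzuki.tSz hF k (0 : F)) (Suzuki.tSz hF 1 0) := by
    have h1 := hc.is_comm.comm ⟨_, Subgroup.mem_map_of_mem eS.symm.toMonoidHom (Suzuki.tSz_mem_uSub hF k 0)⟩
      ⟨_, Subgroup.mem_map_of_mem eS.symm.toMonoidHom (Suzuki.tSz_mem_uSub hF 1 0)⟩
    have h2 := congrArg Subtype.val h1
    exact eS.symm.injective (by rw [map_mul, map_mul]; exact h2)
  have hbr := (commutatorElement_eq_one_iff_commute).2 hcomm
  rw [Suzuki.commutator_tSz, ← Suzuki.tSz_zero hF] at hbr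
  have hz := (Suzuki.tSz_inj hF hbr).2
  exact hk (by simp at hz; grind)

theorem solvable_or_suzuki_section (n : ℕ) :
    ∀ (H : Type u) [Group H] [Finite H], Nat.card H ≤ n → ¬ Group.IsSolvable H →
      ∃ (X : Type u) (_ : Group X) (_ : Finite X), FunctorControl.IsSec H X ∧ IsSimpleGroup X ∧
        ¬ IsMulCommutative X := by
  induction n with
  | zero => intro H _ _ hn; exact absurd (Nat.card_pos (α := H)) (by omega)
  | succ n ih =>
    intro H _ _ hn hns
    haveI : Nontrivial H := by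
      by_contra hnt
      rw [not_nontrivial_iff_subsingleton] at hnt
      exact hns (by infer_instance)
    by_cases hs : IsSimpleGroup H
    · exact ⟨H, inferInstance, inferInstance, FunctorControl.IsSec.refl H, hs, fun hc =>
        hns (Group.isSolvable_of_comm fun a b => hc.is_comm.comm a b)⟩
    obtain ⟨N, hN, hN1, hN2⟩ : ∃ N : Subgroup H, N.Normal ∧ N ≠ ⊥ ∧ N ≠ ⊤ := by
      by_contra hno
      push Not at hno
      exact hs ⟨fun K hK => or_iff_not_imp_left.2 fun hne => hno K hK hne⟩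
    by_cases hNs : Group.IsSolvable N
    · have hq : ¬ Group.IsSolvable (H ⧸ N) := fun hq => hns
        (Group.isSolvable_of_ker_le_range N.subtype (QuotientGroup.mk' N)
          (by rw [QuotientGroup.ker_mk', Subgroup.range_subtype]))
      have hlt : Nat.card (H ⧸ N) ≤ n := by
        have h1 := Subgroup.card_eq_card_quotient_mul_card_subgroup N
        have h2 : 2 ≤ Nat.card N := N.one_lt_card_iff_ne_bot.2 hN1
        have h3 := Nat.card_pos (α := H ⧸ N)
        nlinarith
      obtain ⟨X, _, _, hX, hrest⟩ := ih (H ⧸ N) hlt hq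
      exact ⟨X, inferInstance, inferInstance,
        ((FunctorControl.IsSec.refl H).of_surjective _ (QuotientGroup.mk'_surjective N)).trans hX, hrest⟩
    · have hlt : Nat.card N ≤ n := by
        have := Subgroup.card_mul_index N
        have h2 : 2 ≤ N.index := Subgroup.one_lt_index_of_ne_top hN2
        have h3 := Nat.card_pos (α := N)
        nlinarith
      obtain ⟨X, _, _, hX, hrest⟩ := ih N hlt hNs
      exact ⟨X, inferInstance, inferInstance, ((FunctorControl.IsSec.refl H).subgroup N).trans hX, hrest⟩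

theorem classify_aux (hG : Step.{u}) (n : ℕ) :
    ∀ (G : Type u) [Group G] [Finite G] [IsSimpleGroup G], Nat.card G ≤ n → ¬ IsMulCommutative G →
      ¬ 3 ∣ Nat.card G → Cfsg.Lie.IsoSuzuki G := by
  induction n with
  | zero => intro G _ _ _ hn; exact absurd (Nat.card_pos (α := G)) (by omega)
  | succ n ih =>
    intro G _ _ _ hn hna h3
    haveI : Fact (Nat.Prime 2) := ⟨Nat.prime_two⟩
    -- smaller sections
    have hsmall : ∀ (X : Type u) [Group X] [Finite X], IsSimpleGroup X → ¬ IsMulCommutative X →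
        Nat.card X ∣ Nat.card G → Nat.card X < Nat.card G → Cfsg.Lie.IsoSuzuki X :=
      fun X _ _ hX hXna hdvd hlt => by
        haveI := hX
        exact ih X (by omega) hXna fun h => h3 (h.trans hdvd)
    obtain ⟨S⟩ : Nonempty (Sylow 2 G) := inferInstance
    by_cases hab : IsMulCommutative (S : Subgroup G)
    · refine (exists_stronglyEmbedded hna S h3 hab fun H hH => ?_).elim fun M hM =>
        isoSuzuki_of_stronglyEmbedded h3 hM
      by_contra hns
      obtain ⟨X, _, _, hX, hXs, hXna⟩ := solvable_or_suzuki_section _ H le_rfl hns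
      have hlt : Nat.card H < Nat.card G := lt_of_le_of_ne (Subgroup.card_le_card_group H)
        fun e => hH (Subgroup.eq_top_of_card_eq H e)
      have hsz := hsmall X hXs hXna ((sec_card hX).trans (card_subgroup_dvd_card H))
        (lt_of_le_of_lt (Nat.le_of_dvd Nat.card_pos (sec_card hX)) hlt)
      obtain ⟨P, hP, hPna⟩ := suzuki_sylow_not_comm hsz
      obtain ⟨K, f, hf⟩ := hX
      obtain ⟨Q⟩ : Nonempty (Sylow 2 K) := inferInstance
      obtain ⟨R, hR'⟩ := hP.exists_le_sylow
      obtain ⟨x, hx⟩ := MulAction.exists_smul_eq X (Q.mapSurjective hf) R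
      refine hPna ⟨⟨fun a b => Subtype.ext ?_⟩⟩
      have hRc : ∀ a ∈ (R : Subgroup X), ∀ b ∈ (R : Subgroup X), a * b = b * a := by
        have hQ : IsPGroup 2 ((Q : Subgroup K).map (H.subtype.comp K.subtype)) := Q.isPGroup'.map _
        obtain ⟨S', hS'⟩ := hQ.exists_le_sylow
        obtain ⟨g, hg⟩ := MulAction.exists_smul_eq G S' S
        have hS'c : ∀ a ∈ (S' : Subgroup G), ∀ b ∈ (S' : Subgroup G), a * b = b * a := fun a ha b hb => by
          have hm : ∀ c ∈ (S' : Subgroup G), g * c * g⁻¹ ∈ (S : Subgroup G) := fun c hc => by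
            rw [← hg]; exact Subgroup.smul_mem_pointwise_smul _ (MulAut.conj g) _ hc
          have := congrArg Subtype.val (hab.is_comm.comm ⟨_, hm a ha⟩ ⟨_, hm b hb⟩)
          exact (MulAut.conj g).injective (by simpa only [map_mul, MulAut.conj_apply, Subgroup.coe_mul] using this)
        intro a ha b hb
        rw [← hx] at ha hb
        obtain ⟨a', ⟨a'', ha'', rfl⟩, rfl⟩ := ha
        obtain ⟨b', ⟨b'', hb'', rfl⟩, rfl⟩ := hb
        have e1 : a'' * b'' = b'' * a'' := Subtype.ext (Subtype.ext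
          (hS'c _ (hS' ⟨a'', ha'', rfl⟩) _ (hS' ⟨b'', hb'', rfl⟩)))
        show (MulAut.conj x) (f a'') * (MulAut.conj x) (f b'') = (MulAut.conj x) (f b'') * (MulAut.conj x) (f a'')
        rw [← map_mul, ← map_mul, ← map_mul, ← map_mul, e1]
      exact hRc _ (hR' a.2) _ (hR' b.2)
    -- non-abelian Sylow: a strongly closed abelian subgroup
    have hfree : ¬ Cfsg.Involves (Equiv.Perm (Fin 4)) G := by
      rintro ⟨K, R, hn', ⟨e⟩⟩
      have hd := sec_card (FunctorControl.isSec_quotient (G := G) K R)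
      rw [Nat.card_congr e.toEquiv, Nat.card_perm, Nat.card_eq_fintype_card, Fintype.card_fin] at hd
      exact h3 (Dvd.dvd.trans (by decide) hd)
    have hsec : ∀ (K R : Subgroup G) [hR : (R.subgroupOf K).Normal],
        Subgroup.centralizer (Cfsg.pCore 2 (K ⧸ R.subgroupOf K) : Set (K ⧸ R.subgroupOf K)) ≤
          Cfsg.pCore 2 (K ⧸ R.subgroupOf K) →
        Cfsg.IsCompositionKGroupWith Cfsg.IsSuzukiOrPSL2OddPowerThree (K ⧸ R.subgroupOf K) := by
      intro K R hn' hc H _ N _ hs hnc
      set X := ↥K ⧸ R.subgroupOf K with hX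
      have hXsec : FunctorControl.IsSec G X := FunctorControl.isSec_quotient K R
      refine Or.inl (hsmall _ hs hnc
        ((Subgroup.card_quotient_dvd_card N).trans ((card_subgroup_dvd_card H).trans (sec_card hXsec))) ?_)
      refine lt_of_le_of_lt (Nat.le_of_dvd Nat.card_pos
        ((Subgroup.card_quotient_dvd_card N).trans (card_subgroup_dvd_card H)))
        (lt_of_le_of_ne (Nat.le_of_dvd Nat.card_pos (sec_card hXsec)) fun e => ?_)
      -- a section of full order is isomorphic to the simple group itself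
      obtain ⟨K', f, hf⟩ := hXsec
      have hK'top : K' = ⊤ := Subgroup.eq_top_of_card_eq _ (le_antisymm (Subgroup.card_le_card_group _)
        (e ▸ Nat.card_le_card_of_surjective f hf))
      have hfb : Function.Bijective f := (Nat.bijective_iff_surjective_and_card _).2
        ⟨hf, by rw [e, hK'top, Nat.card_congr Subgroup.topEquiv.toEquiv]⟩
      let e' : G ≃* X := (Subgroup.topEquiv.symm.trans (MulEquiv.subgroupCongr hK'top.symm)).trans
        (MulEquiv.ofBijective f hfb)
      haveI : IsSimpleGroup X := by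
        haveI := e'.symm.toEquiv.nontrivial
        exact IsSimpleGroup.isSimpleGroup_of_surjective e'.toMonoidHom e'.surjective
      have hXna : ¬ IsMulCommutative X := fun h => hna ⟨⟨fun a b => e'.injective (by
        rw [map_mul, map_mul]; exact h.is_comm.comm _ _)⟩⟩
      rcases (Cores.pCore_normal 2 X).eq_bot_or_eq_top with hb | ht
      · rw [hb] at hc
        have : (⊤ : Subgroup X) ≤ ⊥ := le_trans (fun y _ => mem_centralizer_iff.2 fun z hz => by
          rw [SetLike.mem_coe, mem_bot] at hz; rw [hz, one_mul, mul_one]) hc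
        exact hXna ⟨⟨fun a b => by rw [mem_bot.1 (this (mem_top a)), mem_bot.1 (this (mem_top b))]⟩⟩
      · have hp : IsPGroup 2 X := (ht ▸ Cores.isPGroup_pCore 2 X).of_equiv Subgroup.topEquiv
        exact not_solvable_of_simple hXna (by haveI := hp.isNilpotent; infer_instance)
    obtain ⟨hle, hel, hsc, -⟩ := S2796.result hfree hsec S _ rfl _ rfl
    have hna' : ∃ a b : G, a * b ≠ b * a := by
      by_contra hc
      push Not at hc
      exact hna ⟨⟨hc⟩⟩
    refine (hG G hna' h3 hsmall S _ ?_ hel hsc hab).elim fun M hM =>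
      isoSuzuki_of_stronglyEmbedded h3 hM
    intro e
    have hne : Cfsg.omegaOne 2 ((S : Subgroup G) ⊓ centralizer ((S : Subgroup G) : Set G)) ≠ ⊥ := by
      refine PLocal.omegaOne_ne_bot ?_
      haveI : Nontrivial (S : Subgroup G) := (Subgroup.nontrivial_iff_ne_bot _).2 (sylow_ne_bot hna S)
      have hZ := S.isPGroup'.center_nontrivial
      have hZp : IsPGroup 2 ((Subgroup.center ↥(S : Subgroup G)).map (S : Subgroup G).subtype) :=
        (S.isPGroup'.to_subgroup _).map _
      have hZle : (Subgroup.center ↥(S : Subgroup G)).map (S : Subgroup G).subtype ≤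
          (S : Subgroup G) ⊓ centralizer ((S : Subgroup G) : Set G) := by
        rintro _ ⟨z, hz, rfl⟩
        exact ⟨z.2, mem_centralizer_iff.2 fun s hs =>
          congrArg Subtype.val (Subgroup.mem_center_iff.1 hz ⟨s, hs⟩)⟩
      obtain ⟨k, hk⟩ := hZp.exists_card_eq
      have hk0 : k ≠ 0 := fun h0 => by
        rw [h0, pow_zero, Cores.card_map_subtype] at hk
        exact (Subgroup.nontrivial_iff_ne_bot _).1 hZ (Subgroup.card_eq_one.1 hk)
      exact (hk ▸ dvd_pow_self 2 hk0).trans (Subgroup.card_dvd_of_le hZle)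
    refine hne (eq_bot_iff.2 fun x hx => ?_)
    have hxN : x ∈ normalizer (Cfsg.thompsonSubgroupOf 2 (S : Subgroup G) : Set G) :=
      le_normalizer.trans (PLocal.normalizer_le_normalizer_thompsonSubgroupOf _) ((PLocal.omegaOne_le _ hx).1)
    exact (SetLike.le_def.1 e.le) ⟨⟨x, hxN⟩, Subgroup.subset_normalClosure (show _ ∈ _ from hx), rfl⟩

/-- A finite non-abelian simple group of order prime to 3 is a Suzuki group. -/
theorem classify (hG : Step.{u}) (G : Type u) [Group G] [Finite G]
    [IsSimpleGroup G] (hna : ¬ IsMulCommutative G) (h3 : ¬ 3 ∣ Nat.card G) : Cfsg.Lie.IsoSuzuki G :=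
  classify_aux hG _ G le_rfl hna h3

/-- The isomorphism form with the hypothesis spelled with elements. -/
theorem classify' (hG : Step.{u}) (G : Type u) [Group G] [Finite G] [IsSimpleGroup G]
    (hna : ∃ a b : G, a * b ≠ b * a) (h3 : ¬ 3 ∣ Nat.card G) : Cfsg.Lie.IsoSuzuki G :=
  classify hG G (fun h => hna.elim fun a ⟨b, hab⟩ => hab (h.is_comm.comm a b)) h3

/-- The order-level predicate of S0336. -/
theorem isSuzuki (hG : Step.{u}) (G : Type u) [Group G] [Finite G] [IsSimpleGroup G]
    (hna : ∃ a b : G, a * b ≠ b * a) (h3 : ¬ 3 ∣ Nat.card G) : Cfsg.IsSuzuki G := by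
  obtain ⟨F, _, _, m, hm, hF, ⟨e⟩⟩ := classify' hG G hna h3
  refine ⟨inferInstance, m, hm, ?_⟩
  rw [Nat.card_congr (e.trans (Suzuki.lieEquiv (F := F) hm hF).symm).toEquiv, Suzuki.card_sz hm hF]

end Cfsg.Agent.ThreePrimeSimple
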