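import Cfsg.Agent.Lib.Signalizer.SSFT.Main
import Cfsg.Agent.Lib.Signalizer.Core
import Cfsg.Agent.Lib.Signalizer.GraphTrivial
import Cfsg.Agent.Lib.Involution.StronglyEmbedded
import Cfsg.Agent.Lib.HallHigman.PSolvable
import Cfsg.Agent.Lib.Constrained.Basic
import Cfsg.Agent.Lib.PLocal.Omega
import Cfsg.Agent.Lib.SmallOrders.Basic
import Cfsg.Agent.Lib.OddOrderTheorem.Basic

/-!
# Simple groups with abelian Sylow 2-subgroups and soluble proper subgroups (owner: helper60)

* `fixes_of_fixes_omega` : odd order automorphism of an abelian 2-group trivial on `Ω₁`;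
* `rank_three` : an abelian Sylow 2-subgroup of a simple group of order prime to 3 has rank at least 3;
* `exists_stronglyEmbedded` : if moreover all proper subgroups are soluble, a strongly embedded subgroup exists.
-/

set_option autoImplicit false

namespace Cfsg.Agent.ThreePrimeSimple

open Subgroup

universe u

theorem mem_normalizer_iff_of_map_le {G : Type*} [Group G] [Finite G] {W : Subgroup G} {g : G}
    (h : W.map (MulAut.conj g).toMonoidHom ≤ W) : g ∈ normalizer (W : Set G) := by
  have he : W.map (MulAut.conj g).toMonoidHom = W := Subgroup.eq_of_le_of_card_ge h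
    (Subgroup.card_map_of_injective (MulAut.conj g).injective).ge
  refine mem_normalizer_iff.2 fun z => ⟨fun hz => h ⟨z, hz, rfl⟩, fun hz => ?_⟩
  obtain ⟨y, hy, e⟩ := (SetLike.ext_iff.1 he _).2 hz
  rwa [show y = z from (MulAut.conj g).injective e] at hy

variable {G : Type u} [Group G] [Finite G]

/-- An element of odd order normalising an abelian 2-group and fixing its involutions centralises it. -/
theorem fixes_of_fixes_omega {S : Subgroup G} (hS : IsPGroup 2 S) (hab : IsMulCommutative S) {g : G}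
    (hg : g ∈ normalizer (S : Set G)) (hodd : Odd (orderOf g))
    (hfix : ∀ x ∈ S, x ^ 2 = 1 → g * x * g⁻¹ = x) : ∀ x ∈ S, g * x * g⁻¹ = x := by
  suffices h : ∀ k : ℕ, ∀ x ∈ S, x ^ 2 ^ k = 1 → g * x * g⁻¹ = x by
    intro x hx
    obtain ⟨k, hk⟩ := hS ⟨x, hx⟩
    exact h k x hx (congrArg Subtype.val hk)
  intro k
  induction k with
  | zero => intro x _ hk; rw [pow_zero, pow_one] at hk; subst hk; simp
  | succ k ih =>
    intro x hx hk
    have hgx : g * x * g⁻¹ ∈ S := (mem_normalizer_iff.1 hg x).1 hx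
    have hsq : g * x ^ 2 * g⁻¹ = x ^ 2 := ih _ (S.pow_mem hx 2) (by
      rw [← pow_mul, ← pow_succ']; exact hk)
    have hc : Commute (g * x * g⁻¹) x⁻¹ :=
      congrArg Subtype.val (hab.is_comm.comm ⟨_, hgx⟩ ⟨_, S.inv_mem hx⟩)
    obtain ⟨w, hw⟩ : ∃ w, w = g * x * g⁻¹ * x⁻¹ := ⟨_, rfl⟩
    have hwS : w ∈ S := hw ▸ S.mul_mem hgx (S.inv_mem hx)
    have hw2 : w ^ 2 = 1 := by
      rw [hw, hc.mul_pow, conj_pow, hsq, inv_pow, mul_inv_cancel]
    have hgw : g * w * g⁻¹ = w := hfix w hwS hw2
    have hiter : ∀ n : ℕ, g ^ n * x * (g ^ n)⁻¹ = w ^ n * x := by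
      intro n
      induction n with
      | zero => simp
      | succ n ihn =>
        have h1 : g * w ^ n * g⁻¹ = w ^ n := by rw [← conj_pow, hgw]
        calc g ^ (n + 1) * x * (g ^ (n + 1))⁻¹
            = g * (g ^ n * x * (g ^ n)⁻¹) * g⁻¹ := by rw [pow_succ']; group
          _ = g * (w ^ n * x) * g⁻¹ := by rw [ihn]
          _ = (g * w ^ n * g⁻¹) * (g * x * g⁻¹) := by group
          _ = w ^ n * (w * x) := by rw [h1, hw]; group
          _ = w ^ (n + 1) * x := by rw [pow_succ, mul_assoc]
    have h1 := hiter (orderOf g)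
    rw [pow_orderOf_eq_one, one_mul, inv_one, mul_one] at h1
    obtain ⟨m, hm⟩ := hodd
    rw [hm, pow_succ, pow_mul, hw2, one_pow, one_mul] at h1
    have hw1 : w = 1 := right_eq_mul.1 h1
    rw [hw1] at hw
    exact mul_inv_eq_one.1 hw.symm

variable [IsSimpleGroup G] (hna : ¬ IsMulCommutative G) (S : Sylow 2 G)
include hna

omit [Finite G] in
theorem not_solvable_of_simple : ¬ Group.IsSolvable G := fun h => hna ⟨⟨by
  haveI := h
  exact fun a b => IsSimpleGroup.comm_iff_isSolvable.2 h a b⟩⟩

theorem sylow_ne_bot : (S : Subgroup G) ≠ ⊥ := by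
  intro e
  refine not_solvable_of_simple hna (OddOrderTheorem.solvable ?_)
  have h := S.not_dvd_index
  rw [e, Subgroup.index_bot] at h
  exact Nat.odd_iff.2 (by omega)

theorem sylow_ne_top : (S : Subgroup G) ≠ ⊤ := by
  intro e
  haveI : Fact (Nat.Prime 2) := ⟨Nat.prime_two⟩
  have hp : IsPGroup 2 G := (e ▸ S.isPGroup').of_equiv Subgroup.topEquiv
  exact not_solvable_of_simple hna (by haveI := hp.isNilpotent; infer_instance)

/-- The Burnside transfer conclusion. -/
theorem not_normalizer_le_centralizer :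
    ¬ normalizer ((S : Subgroup G) : Set G) ≤ centralizer ((S : Subgroup G) : Set G) := by
  haveI : Fact (Nat.Prime 2) := ⟨Nat.prime_two⟩
  intro h
  have hc := MonoidHom.ker_transferSylow_isComplement' S h
  rcases (MonoidHom.normal_ker (MonoidHom.transferSylow S h)).eq_bot_or_eq_top with e | e
  · rw [e, Subgroup.isComplement'_bot_left] at hc
    exact sylow_ne_top hna S hc
  · rw [e, Subgroup.isComplement'_top_left] at hc
    exact sylow_ne_bot hna S hc

theorem rank_three (h3 : ¬ 3 ∣ Nat.card G) (hab : IsMulCommutative (S : Subgroup G)) :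
    2 ^ 3 ≤ Nat.card ↥(Cfsg.omegaOne 2 (S : Subgroup G)) := by
  classical
  haveI : Fact (Nat.Prime 2) := ⟨Nat.prime_two⟩
  set E := Cfsg.omegaOne 2 (S : Subgroup G) with hE
  by_contra hlt
  refine not_normalizer_le_centralizer hna S fun g hg => ?_
  have hSC : (S : Subgroup G) ≤ centralizer ((S : Subgroup G) : Set G) := fun a ha =>
    mem_centralizer_iff.2 fun b hb =>
      congrArg Subtype.val (hab.is_comm.comm ⟨b, hb⟩ ⟨a, ha⟩)
  have hEel : Cfsg.IsElementaryAbelian 2 E := PLocal.omegaOne_elemAb hSC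
  have hEle : E ≤ (S : Subgroup G) := PLocal.omegaOne_le _
  have hcard : Nat.card E ≤ 4 := by
    obtain ⟨n, hn⟩ := (PLocal.elemAb_isPGroup hEel).exists_card_eq
    rw [hn] at hlt ⊢
    have : n < 3 := by
      by_contra h
      exact hlt (Nat.pow_le_pow_right (by norm_num) (Nat.le_of_not_lt h))
    calc (2 : ℕ) ^ n ≤ 2 ^ 2 := Nat.pow_le_pow_right (by norm_num) (by omega)
      _ = 4 := rfl
  -- the odd part of `g`
  obtain ⟨a, m, hm2, ham⟩ := Nat.exists_eq_pow_mul_and_not_dvd (orderOf_pos g).ne' 2 (by norm_num)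
  have hodd_part : ∀ h : G, h ∈ normalizer ((S : Subgroup G) : Set G) → Odd (orderOf h) →
      h ∈ centralizer ((S : Subgroup G) : Set G) := by
    intro h hh ho
    refine mem_centralizer_iff.2 fun x hx => ?_
    have := fixes_of_fixes_omega S.isPGroup' hab hh ho (fun y hy hy2 => ?_) x hx
    · calc x * h = (h * x * h⁻¹) * h := by rw [this]
        _ = h * x := by group
    · have hyE : y ∈ E := PLocal.mem_omegaOne hy hy2
      rcases eq_or_ne y 1 with rfl | hy1
      · simp
      -- `h` permutes the at most three involutions of `E` and has order prime to 6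
      have hmem : ∀ z ∈ E, h * z * h⁻¹ ∈ E := fun z hz =>
        PLocal.mem_omegaOne ((mem_normalizer_iff.1 hh z).1 (hEle hz))
          (by rw [conj_pow, hEel.2 z hz]; group)
      let T := {z : E // z ≠ 1}
      haveI : Fintype T := Fintype.ofFinite _
      let σ : T → T := fun z => ⟨⟨h * (z.1 : G) * h⁻¹, hmem _ z.1.2⟩, fun e => z.2 (Subtype.ext (by
        have := congrArg Subtype.val e
        simpa using this))⟩
      have hσ : Function.Injective σ := fun z z' e => by
        apply Subtype.ext; apply Subtype.ext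
        have := congrArg (fun w : T => (w.1 : G)) e
        simpa [σ] using this
      let τ : Equiv.Perm T := Equiv.ofBijective σ (Finite.injective_iff_bijective.1 hσ)
      have hpow : ∀ (n : ℕ) (z : T), (((τ ^ n) z).1 : G) = h ^ n * (z.1 : G) * (h ^ n)⁻¹ := by
        intro n
        induction n with
        | zero => intro z; simp
        | succ n ihn =>
          intro z
          rw [pow_succ', Equiv.Perm.mul_apply]
          show h * (((τ ^ n) z).1 : G) * h⁻¹ = _
          rw [ihn, pow_succ']; group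
      have h1 : τ ^ orderOf h = 1 := Equiv.ext fun z => Subtype.ext (Subtype.ext (by
        rw [hpow, pow_orderOf_eq_one]; simp))
      have h6 : τ ^ 6 = 1 := by
        have hT : Fintype.card T ≤ 3 := by
          have : Nat.card T + 1 = Nat.card E := by
            haveI : Fintype E := Fintype.ofFinite _
            rw [Nat.card_eq_fintype_card, Nat.card_eq_fintype_card, Fintype.card_subtype_compl,
              Fintype.card_subtype_eq]
            have := Fintype.card_pos (α := E)
            omega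
          rw [Nat.card_eq_fintype_card] at this
          omega
        refine orderOf_dvd_iff_pow_eq_one.1 ((orderOf_dvd_card (x := τ)).trans ?_)
        rw [Fintype.card_perm]
        exact (Nat.factorial_dvd_factorial hT).trans (by norm_num [Nat.factorial])
      have hco : Nat.Coprime (orderOf h) 6 := by
        have h2' : Nat.Coprime (orderOf h) 2 := Nat.coprime_two_right.2 ho
        have h3' : Nat.Coprime (orderOf h) 3 := by
          rw [Nat.coprime_comm, Nat.Prime.coprime_iff_not_dvd Nat.prime_three]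
          exact fun hd => h3 (hd.trans (orderOf_dvd_natCard h))
        exact h2'.mul_right h3'
      have hτ : τ = 1 := by
        have := pow_gcd_eq_one.2 ⟨h1, h6⟩
        rwa [hco, pow_one] at this
      have := congrArg (fun π : Equiv.Perm T => ((π ⟨⟨y, hyE⟩, fun e => hy1 (congrArg Subtype.val e)⟩).1 : G)) hτ
      simpa [τ, σ] using this
  have hg2 : g ^ m ∈ centralizer ((S : Subgroup G) : Set G) := by
    -- a 2-element of the normaliser of a Sylow 2-subgroup lies in it
    refine hSC ?_
    have hpg : IsPGroup 2 (zpowers (g ^ m)) := IsPGroup.of_card (n := a) (by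
      rw [Nat.card_zpowers, orderOf_pow' g (by rintro rfl; simp at hm2), ham,
        Nat.gcd_eq_right (dvd_mul_left m _), Nat.mul_div_cancel _ (Nat.pos_of_ne_zero (by rintro rfl; simp at hm2))])
    have hsup := hpg.to_sup_of_normal_right' S.isPGroup'
      (zpowers_le.2 (pow_mem hg m))
    exact S.is_maximal' hsup le_sup_right ▸ mem_sup_left (mem_zpowers _)
  have hgo : g ^ (2 ^ a) ∈ centralizer ((S : Subgroup G) : Set G) := by
    refine hodd_part _ (pow_mem hg _) ?_
    rw [orderOf_pow' g (pow_ne_zero a two_ne_zero), ham,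
      Nat.gcd_eq_right (dvd_mul_right (2 ^ a) m), Nat.mul_div_cancel_left _ (by positivity)]
    exact Nat.odd_iff.2 (by omega)
  have hco : Nat.gcd (2 ^ a) m = 1 :=
    ((Nat.Prime.coprime_iff_not_dvd Nat.prime_two).2 hm2).pow_left a
  have hb := Nat.gcd_eq_gcd_ab (2 ^ a) m
  rw [hco] at hb
  have : g = (g ^ (2 ^ a)) ^ (Nat.gcdA (2 ^ a) m) * (g ^ m) ^ (Nat.gcdB (2 ^ a) m) := by
    rw [← zpow_natCast g (2 ^ a), ← zpow_natCast g m, ← zpow_mul, ← zpow_mul, ← zpow_add, ← hb]
    simp
  rw [this]
  exact mul_mem (zpow_mem hgo _) (zpow_mem hg2 _)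

theorem exists_stronglyEmbedded (h3 : ¬ 3 ∣ Nat.card G) (hab : IsMulCommutative (S : Subgroup G))
    (hsol : ∀ H : Subgroup G, H ≠ ⊤ → Group.IsSolvable H) :
    ∃ H : Subgroup G, Cfsg.IsStronglyEmbedded H := by
  haveI : Fact (Nat.Prime 2) := ⟨Nat.prime_two⟩
  set E := Cfsg.omegaOne 2 (S : Subgroup G) with hE
  have hns := not_solvable_of_simple hna
  have hSC : (S : Subgroup G) ≤ centralizer ((S : Subgroup G) : Set G) := fun a ha =>
    mem_centralizer_iff.2 fun b hb =>
      congrArg Subtype.val (hab.is_comm.comm ⟨b, hb⟩ ⟨a, ha⟩)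
  have hEel : Cfsg.IsElementaryAbelian 2 E := PLocal.omegaOne_elemAb hSC
  have hEle : E ≤ (S : Subgroup G) := PLocal.omegaOne_le _
  have hrk := rank_three hna S h3 hab
  have hCsol : ∀ a ∈ E, a ≠ 1 → Group.IsSolvable ↥(centralizer ({a} : Set G)) := fun a _ ha1 =>
    hsol _ fun e => ha1 (by
      have hz : a ∈ center G := mem_center_iff.2 fun g =>
        mem_centralizer_singleton_iff.1 (e ▸ mem_top g)
      rwa [SmallOrders.center_eq_bot hna, mem_bot] at hz)
  obtain ⟨hWsol, hWodd, -⟩ := Signalizer.solvable_signalizer_functor hEel hrk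
    (Signalizer.isSolvableSignalizerFunctor_core hEel hCsol)
  set W := ⨆ a : {a : G // a ∈ E ∧ a ≠ 1}, Cfsg.centralizerPPrimeCore 2 (a : G) with hW
  have hNE : normalizer ((S : Subgroup G) : Set G) ≤ normalizer (E : Set G) := fun g hg => by
    refine mem_normalizer_iff.2 fun z => ⟨fun hz => ?_, fun hz => ?_⟩
    · exact PLocal.mem_omegaOne ((mem_normalizer_iff.1 hg z).1 (hEle hz))
        (by rw [conj_pow, hEel.2 z hz]; group)
    · refine PLocal.mem_omegaOne ((mem_normalizer_iff.1 hg z).2 (hEle hz)) ?_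
      have := hEel.2 _ hz
      rw [conj_pow] at this
      simpa using this
  have hNW : normalizer (E : Set G) ≤ normalizer (W : Set G) := by
    intro g hg
    refine mem_normalizer_iff_of_map_le ?_
    rw [hW, Subgroup.map_iSup]
    refine iSup_le fun a => ?_
    rw [Signalizer.map_conj_centralizerPPrimeCore]
    refine le_iSup_of_le ⟨g * a * g⁻¹, (mem_normalizer_iff.1 hg _).1 a.2.1, fun e => a.2.2 (by simpa using e)⟩ le_rfl
  set M := W ⊔ normalizer (E : Set G) with hM
  have hMne : M ≠ ⊤ := by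
    intro e
    have hWn : W.Normal := normalizer_eq_top_iff.1 (top_le_iff.1
      (e ▸ sup_le le_normalizer hNW))
    have hW1 : W = ⊥ := hWn.eq_bot_or_eq_top.resolve_right fun hT => hns (by
      haveI : Group.IsSolvable (⊤ : Subgroup G) := hT ▸ hWsol
      exact solvable_of_surjective (f := (Subgroup.topEquiv : (⊤ : Subgroup G) ≃* G).toMonoidHom)
        (Subgroup.topEquiv : (⊤ : Subgroup G) ≃* G).surjective)
    rw [hM, hW1, bot_sup_eq] at e
    rcases (normalizer_eq_top_iff.1 e).eq_bot_or_eq_top with e' | e'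
    · rw [← hE, e', Subgroup.card_bot] at hrk
      norm_num at hrk
    · exact sylow_ne_top hna S (top_le_iff.1 (e' ▸ hEle))
  have hSM : normalizer ((S : Subgroup G) : Set G) ≤ M := hNE.trans le_sup_right
  have hCM : ∀ t ∈ E, t ≠ 1 → centralizer ({t} : Set G) ≤ M := by
    intro t ht ht1 x hx
    set C := centralizer ({t} : Set G) with hC
    haveI : Group.IsSolvable C := hCsol t ht ht1
    have hSle : (S : Subgroup G) ≤ C := fun s hs => mem_centralizer_singleton_iff.2
      (congrArg Subtype.val (hab.is_comm.comm ⟨s, hs⟩ ⟨t, hEle ht⟩))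
    set P : Sylow 2 C := S.subtype hSle with hP
    set O := Cfsg.pPrimeCore 2 ↥C with hO
    haveI : O.Normal := Cores.pPrimeCore_normal 2 _
    set π := QuotientGroup.mk' O with hπ
    have hsurj : Function.Surjective π := QuotientGroup.mk'_surjective O
    let Pb : Sylow 2 (↥C ⧸ O) := P.mapSurjective hsurj
    have hPb : (Pb : Subgroup (↥C ⧸ O)) = (P : Subgroup C).map π := Sylow.coe_mapSurjective hsurj P
    haveI habP : IsMulCommutative ↥(P : Subgroup C) := ⟨⟨fun a b => by
      have h : ((a : C) : G) * ((b : C) : G) = ((b : C) : G) * ((a : C) : G) :=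
        congrArg Subtype.val (hab.is_comm.comm ⟨((a : C) : G), a.2⟩ ⟨((b : C) : G), b.2⟩)
      exact Subtype.ext (Subtype.ext h)⟩⟩
    have hle : Cfsg.pCore 2 (↥C ⧸ O) ≤ (P : Subgroup C).map π := hPb ▸ Cores.pCore_le_sylow Pb
    have heq : (P : Subgroup C).map π = Cfsg.pCore 2 (↥C ⧸ O) := by
      refine le_antisymm (fun y hy => ?_) hle
      refine Constrained.isPConstrained_iff.1 HallHigman.isPConstrained_of_isSolvable
        (mem_centralizer_iff.2 fun r hr => ?_)
      have habb : IsMulCommutative ↥((P : Subgroup C).map π) := Subgroup.map_isMulCommutative _ _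
      exact congrArg Subtype.val (habb.is_comm.comm ⟨r, hle hr⟩ ⟨y, hy⟩)
    haveI : (O ⊔ (P : Subgroup C)).Normal := by
      have hn : ((Cfsg.pCore 2 (↥C ⧸ O)).comap π).Normal :=
        (Cores.pCore_normal 2 _).comap π
      rwa [← heq, Subgroup.comap_map_eq, hπ, QuotientGroup.ker_mk', sup_comm] at hn
    set L := O ⊔ (P : Subgroup C) with hL
    have hfr := Sylow.normalizer_sup_eq_top' (N := L) P le_sup_right
    have hxm : (⟨x, hx⟩ : C) ∈ normalizer ((P : Subgroup C) : Set C) ⊔ L := by
      exact (le_of_eq hfr.symm) (mem_top _)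
    have hle2 : normalizer ((P : Subgroup C) : Set C) ⊔ L ≤ M.subgroupOf C := by
      have hn1 : normalizer ((P : Subgroup C) : Set C) ≤ M.subgroupOf C := fun y hy => by
        refine hSM (mem_normalizer_iff.2 fun z => ?_)
        constructor
        · intro hz
          exact (mem_normalizer_iff.1 hy ⟨z, hSle hz⟩).1 hz
        · intro hz
          have hzC : z ∈ C := by
            have := C.mul_mem (C.mul_mem (C.inv_mem y.2) (hSle hz)) y.2
            simpa [mul_assoc] using this
          exact (mem_normalizer_iff.1 hy ⟨z, hzC⟩).2 hz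
      refine sup_le hn1 (sup_le (fun y hy => ?_) ((le_normalizer (H := (P : Subgroup C))).trans hn1))
      have : (y : G) ∈ W := le_iSup (fun a : {a : G // a ∈ E ∧ a ≠ 1} =>
        Cfsg.centralizerPPrimeCore 2 (a : G)) ⟨t, ht, ht1⟩ ⟨y, hy, rfl⟩
      exact mem_sup_left this
    exact hle2 hxm
  have hinv : ∀ {t : G}, orderOf t = 2 → t ∈ (S : Subgroup G) → t ∈ E ∧ t ≠ 1 := fun ht hts =>
    ⟨PLocal.mem_omegaOne hts (ht ▸ pow_orderOf_eq_one _), fun e => by simp [e] at ht⟩
  have hSM' : (S : Subgroup G) ≤ M := le_normalizer.trans hSM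
  have hcent : ∀ t ∈ M, orderOf t = 2 → centralizer ({t} : Set G) ≤ M := by
    intro t htM ht c hc
    have hpg : IsPGroup 2 (zpowers (⟨t, htM⟩ : M)) := IsPGroup.of_card (n := 1) (by
      rw [Nat.card_zpowers, orderOf_mk, ht, pow_one])
    obtain ⟨Q, hQ⟩ := hpg.exists_le_sylow
    obtain ⟨m, hm⟩ := MulAction.exists_smul_eq M Q (S.subtype hSM')
    have htS : (m : G) * t * (m : G)⁻¹ ∈ (S : Subgroup G) := by
      have : (MulAut.conj m (⟨t, htM⟩ : M)) ∈ (m • Q : Sylow 2 M) :=
        Subgroup.smul_mem_pointwise_smul _ (MulAut.conj m) _ (hQ (mem_zpowers _))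
      rw [hm] at this
      exact this
    obtain ⟨hE', hne⟩ := hinv (by rw [Involution.orderOf_conj, ht]) htS
    have hmem : (m : G) * c * (m : G)⁻¹ ∈ centralizer ({(m : G) * t * (m : G)⁻¹} : Set G) := by
      rw [mem_centralizer_singleton_iff]
      have := mem_centralizer_singleton_iff.1 hc
      calc (m : G) * c * (m : G)⁻¹ * ((m : G) * t * (m : G)⁻¹) = (m : G) * (c * t) * (m : G)⁻¹ := by group
        _ = (m : G) * (t * c) * (m : G)⁻¹ := by rw [this]
        _ = (m : G) * t * (m : G)⁻¹ * ((m : G) * c * (m : G)⁻¹) := by group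
    have := M.mul_mem (M.mul_mem (M.inv_mem m.2) (hCM _ hE' hne hmem)) m.2
    simpa [mul_assoc] using this
  refine ⟨M, Involution.isStronglyEmbedded_iff_forall.2 ⟨hMne, ?_, fun g t ht htM hgM => ?_⟩⟩
  · rw [even_iff_two_dvd]
    exact (PLocal.elemAb_isPGroup hEel).exists_card_eq.elim fun n hn =>
      (Dvd.dvd.trans (by
        have : n ≠ 0 := fun e => by rw [hn, e] at hrk; norm_num at hrk
        rw [hn]; exact dvd_pow_self 2 this) (Subgroup.card_dvd_of_le (hEle.trans hSM')))
  -- two Sylow subgroups of `M` through an involution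
  have hQ : ∀ (R : Sylow 2 G) (s : G), orderOf s = 2 → s ∈ M → s ∈ (R : Subgroup G) →
      (R : Subgroup G) ≤ M := fun R s hs hsM hsR =>
    Involution.two_group_le_of_centralizer_le hcent R.isPGroup' hs hsR hsM
  have hpg : IsPGroup 2 (zpowers t) := IsPGroup.of_card (n := 1) (by rw [Nat.card_zpowers, ht, pow_one])
  obtain ⟨R, hR⟩ := hpg.exists_le_sylow
  have htR : t ∈ (R : Subgroup G) := hR (mem_zpowers t)
  have hRM := hQ R t ht htM htR
  have hgR : g * t * g⁻¹ ∈ ((g • R : Sylow 2 G) : Subgroup G) :=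
    Subgroup.smul_mem_pointwise_smul _ (MulAut.conj g) _ htR
  have hgRM := hQ (g • R) _ (by rw [Involution.orderOf_conj, ht]) hgM hgR
  obtain ⟨u, hu⟩ := MulAction.exists_smul_eq M (R.subtype hRM) (S.subtype hSM')
  obtain ⟨v, hv⟩ := MulAction.exists_smul_eq M ((g • R).subtype hgRM) (S.subtype hSM')
  have key : ∀ (Q : Sylow 2 G) (hQM : (Q : Subgroup G) ≤ M) (w : M),
      w • Q.subtype hQM = S.subtype hSM' → (w : G) • Q = S := by
    intro Q hQM w hw
    apply Sylow.ext
    apply Subgroup.eq_of_le_of_card_ge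
    · rintro _ ⟨q, hq, rfl⟩
      have : (MulAut.conj w (⟨q, hQM hq⟩ : M)) ∈ (w • Q.subtype hQM : Sylow 2 M) :=
        Subgroup.smul_mem_pointwise_smul _ (MulAut.conj w) _ hq
      rw [hw] at this
      exact this
    · exact (Sylow.card_eq_multiplicity _).trans (Sylow.card_eq_multiplicity _).symm |>.le
  have h1 := key R hRM u hu
  have h2 := key (g • R) hgRM v hv
  have h3' : ((v : G) * g * (u : G)⁻¹) • S = S := by
    conv_lhs => rw [← h1, ← mul_smul]
    rw [show (v : G) * g * (u : G)⁻¹ * (u : G) = (v : G) * g by group, mul_smul, h2]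
  have h4 : (v : G) * g * (u : G)⁻¹ ∈ normalizer ((S : Subgroup G) : Set G) :=
    Sylow.smul_eq_iff_mem_normalizer.1 h3'
  have := M.mul_mem (M.mul_mem (M.inv_mem v.2) (hSM h4)) u.2
  simpa [mul_assoc] using this

end Cfsg.Agent.ThreePrimeSimple
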