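import Cfsg.Agent.Lib.ThreePrimeSimple.Quad
import Cfsg.Agent.Lib.FpfControl.Basic
import Cfsg.Agent.Lib.HallHigman.PSolvable
import Cfsg.Agent.Lib.PGroup.Basic

/-!
# A fixed-point-free symmetric group of degree three on a group of order prime to 3 (owner: helper60)

* `Hyp s t` : `s³ = t² = 1`, `t s t = s⁻¹`, and only `1` is fixed by both
* `Hyp.restrict`, `Hyp.quot`, `Hyp.exists_fixed_lift`
* `Hyp.fixed_quotient` : for solvable `G` the automorphism `s` is trivial on `G / O_{2',2}(G)`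
* `Hyp.structure_of_solvable` : `O_{2',2}(G)` has odd index and with `C(s)` generates `G`
-/

set_option autoImplicit false
set_option linter.style.haveILetI false

namespace Cfsg.Agent.ThreePrimeSimple

open Subgroup FpfControl
open scoped commutatorElement IsMulCommutative

variable {G : Type*} [Group G]

/-- `⟨s, t⟩` is a fixed-point-free group of automorphisms, a quotient of `S₃`. -/
structure Hyp (s t : MulAut G) : Prop where
  cube : ∀ g, s (s (s g)) = g
  sq : ∀ g, t (t g) = g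
  conj : ∀ g, t (s g) = s (s (t g))
  fpf : ∀ g, s g = g → t g = g → g = 1

variable {s t : MulAut G}

theorem Hyp.inverts [Finite G] (h : Hyp s t) {g : G} (hg : s g = g) : t g = g⁻¹ := by
  let C := {x : G // s x = x}
  have hC : ∀ x : C, s ((x : G)⁻¹ * t x) = (x : G)⁻¹ * t x := fun x => by
    have h1 : s (t x) = t (x : G) := by
      have := h.conj (x : G)
      rw [x.2] at this
      conv_lhs => rw [this]
      exact h.cube _
    rw [map_mul, map_inv, x.2, h1]
  let f : C → C := fun x => ⟨(x : G)⁻¹ * t x, hC x⟩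
  have hf : Function.Injective f := by
    rintro ⟨x, hx⟩ ⟨y, hy⟩ e
    have e' : x⁻¹ * t x = y⁻¹ * t y := congrArg Subtype.val e
    refine Subtype.ext (mul_inv_eq_one.1 (h.fpf (y * x⁻¹) (by rw [map_mul, map_inv, hx, hy]) ?_)).symm
    rw [inv_mul_eq_iff_eq_mul, ← mul_assoc] at e'
    rw [map_mul, map_inv, e', mul_inv_rev, mul_inv_rev, inv_inv]
    simp [mul_assoc]
  obtain ⟨⟨x, hx⟩, e⟩ := Finite.surjective_of_injective hf ⟨g, hg⟩
  obtain rfl : x⁻¹ * t x = g := congrArg Subtype.val e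
  rw [map_mul, map_inv, h.sq, mul_inv_rev, inv_inv]

theorem Hyp.eq_one_of_sq [Finite G] (h : Hyp s t) {g : G} (hg : s g = g) (h2 : g * g = 1) : g = 1 :=
  h.fpf g hg ((h.inverts hg).trans (inv_eq_of_mul_eq_one_right h2))

theorem Hyp.not_two_dvd [Finite G] (h : Hyp s t) {g : G} (hg : s g = g) : ¬ 2 ∣ orderOf g := by
  intro hd
  have hpow : s (g ^ (orderOf g / 2)) = g ^ (orderOf g / 2) := by rw [map_pow, hg]
  have h2 : g ^ (orderOf g / 2) * g ^ (orderOf g / 2) = 1 := by
    rw [← pow_add, ← two_mul, Nat.mul_div_cancel' hd, pow_orderOf_eq_one]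
  have := orderOf_dvd_of_pow_eq_one (h.eq_one_of_sq hpow h2)
  have hpos := orderOf_pos g
  have := Nat.le_of_dvd (by omega) this
  omega

theorem Hyp.restrict [Finite G] (h : Hyp s t) {H : Subgroup G} (hs : Inv s H) (ht : Inv t H) :
    Hyp (restrictAut s hs) (restrictAut t ht) :=
  ⟨fun x => Subtype.ext (h.cube x), fun x => Subtype.ext (h.sq x), fun x => Subtype.ext (h.conj x),
    fun x hx hx' => Subtype.ext (h.fpf x (congrArg Subtype.val hx) (congrArg Subtype.val hx'))⟩

theorem not_three_dvd_of_le [Finite G] (h3 : ¬ 3 ∣ Nat.card G) (N : Subgroup G) : ¬ 3 ∣ Nat.card N :=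
  fun h => h3 (h.trans N.card_subgroup_dvd_card)

/-- Fixed points of an automorphism of order three lift through an invariant normal subgroup. -/
theorem exists_fixed_lift [Finite G] (hs3 : ∀ g, s (s (s g)) = g) (N : Subgroup G) [N.Normal]
    (hN : Inv s N) (h3 : ¬ 3 ∣ Nat.card N) {g : G} (hg : (s g : G ⧸ N) = g) :
    ∃ c : G, s c = c ∧ (c : G ⧸ N) = g := by
  classical
  haveI : Fact (Nat.Prime 3) := ⟨Nat.prime_three⟩
  have hstep : ∀ x : G, (x : G ⧸ N) = g → (s x : G ⧸ N) = g := fun x hx => by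
    rw [← hg]
    exact congrArg (quotAut s N hN) hx
  let X := {x : G // (x : G ⧸ N) = g}
  let σ : Equiv.Perm X :=
    { toFun := fun x => ⟨s x, hstep x x.2⟩
      invFun := fun x => ⟨s (s x), hstep _ (hstep x x.2)⟩
      left_inv := fun x => Subtype.ext (hs3 x)
      right_inv := fun x => Subtype.ext (hs3 x) }
  haveI : Fintype X := Fintype.ofFinite X
  have hcard : Fintype.card X = Nat.card N := by
    rw [Fintype.card_eq_nat_card]
    refine (Nat.card_congr (Equiv.ofBijective (fun n : N => (⟨g * n, ?_⟩ : X)) ⟨?_, ?_⟩)).symm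
    · rw [eq_comm, QuotientGroup.eq, inv_mul_cancel_left]; exact n.2
    · intro m n e; exact Subtype.ext (mul_left_cancel (congrArg Subtype.val e))
    · rintro ⟨x, hx⟩
      exact ⟨⟨g⁻¹ * x, QuotientGroup.eq.1 hx.symm⟩, Subtype.ext (mul_inv_cancel_left g x)⟩
  obtain ⟨x, hx⟩ := Equiv.Perm.exists_fixed_point_of_prime (p := 3) (n := 1) (hcard ▸ h3) (σ := σ)
    (Equiv.ext fun x => Subtype.ext (hs3 x))
  exact ⟨x, congrArg Subtype.val hx, x.2⟩

theorem Hyp.quot [Finite G] (h : Hyp s t) (h3 : ¬ 3 ∣ Nat.card G) (N : Subgroup G) [N.Normal]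
    (hs : Inv s N) (ht : Inv t N) : Hyp (quotAut s N hs) (quotAut t N ht) := by
  refine ⟨fun x => ?_, fun x => ?_, fun x => ?_, fun x hx hx' => ?_⟩ <;>
    obtain ⟨y, rfl⟩ := QuotientGroup.mk_surjective x
  · exact congrArg _ (h.cube y)
  · exact congrArg _ (h.sq y)
  · exact congrArg _ (h.conj y)
  · obtain ⟨c, hc, hcy⟩ := exists_fixed_lift h.cube N hs (not_three_dvd_of_le h3 N) hx
    rw [← hcy] at hx' ⊢
    have e : ((c⁻¹ : G) : G ⧸ N) = c := by
      rw [← h.inverts hc]; exact hx'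
    have h2 : (c : G ⧸ N) ^ 2 = 1 := by
      rw [pow_two]; nth_rw 1 [← e]; rw [QuotientGroup.mk_inv, inv_mul_cancel]
    have hd : orderOf (c : G ⧸ N) ∣ orderOf c := orderOf_map_dvd (QuotientGroup.mk' N) c
    rcases (Nat.dvd_prime Nat.prime_two).1 (orderOf_dvd_of_pow_eq_one h2) with e1 | e1
    · exact orderOf_eq_one_iff.1 e1
    · exact absurd (e1 ▸ hd) (h.not_two_dvd hc)

theorem not_three_dvd_quotient [Finite G] (h3 : ¬ 3 ∣ Nat.card G) (N : Subgroup G) :
    ¬ 3 ∣ Nat.card (G ⧸ N) := fun h => h3 (h.trans N.card_quotient_dvd_card)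

theorem inv_of_characteristic (N : Subgroup G) [hN : N.Characteristic] (a : MulAut G) : Inv a N :=
  inv_of_map_eq (Subgroup.characteristic_iff_map_eq.1 hN a)

section Frattini

variable {V : Type*} [Group V]

theorem frattini_le_comap (θ : MulAut V) : frattini V ≤ (frattini V).comap θ.toMonoidHom :=
  (Subgroup.characteristic_iff_comap_eq.1 inferInstance θ).ge

/-- The action of automorphisms on the Frattini quotient, when this is abelian. -/
def endFrattini [IsMulCommutative (V ⧸ frattini V)] :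
    MulAut V →* AddMonoid.End (Additive (V ⧸ frattini V)) where
  toFun θ := MonoidHom.toAdditive (QuotientGroup.map _ _ θ.toMonoidHom (frattini_le_comap θ))
  map_one' := by
    refine AddMonoidHom.ext fun w => ?_
    obtain ⟨v, hv⟩ := QuotientGroup.mk_surjective (Additive.toMul w)
    obtain rfl : w = Additive.ofMul (v : V ⧸ frattini V) := by rw [hv]; rfl
    rfl
  map_mul' θ φ := by
    refine AddMonoidHom.ext fun w => ?_
    obtain ⟨v, hv⟩ := QuotientGroup.mk_surjective (Additive.toMul w)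
    obtain rfl : w = Additive.ofMul (v : V ⧸ frattini V) := by rw [hv]; rfl
    rfl

theorem isMulCommutative_frattini_quotient {p : ℕ} [Fact p.Prime] [Finite V] (hV : IsPGroup p V) :
    IsMulCommutative (V ⧸ frattini V) := by
  refine ⟨⟨fun x y => ?_⟩⟩
  obtain ⟨a, rfl⟩ := QuotientGroup.mk_surjective x
  obtain ⟨b, rfl⟩ := QuotientGroup.mk_surjective y
  rw [← QuotientGroup.mk_mul, ← QuotientGroup.mk_mul, QuotientGroup.eq]
  refine PGroup.commutator_le_frattini hV ?_
  have : (a * b)⁻¹ * (b * a) = ⁅b⁻¹, a⁻¹⁆ := by simp [commutatorElement_def, mul_assoc]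
  rw [this, commutator_eq_closure]
  exact Subgroup.subset_closure ⟨_, _, rfl⟩

end Frattini

/-- An automorphism of order three given by a quadratic element in a faithful representation over
characteristic two of a solvable group with `O_2 = 1`, of order prime to 3, is trivial. -/
theorem fixed_of_faithful {X A : Type*} [Group X] [Finite X] [Group.IsSolvable X] [Ring A]
    (h2 : ∀ z : A, z + z = 0) (a : Aˣ) (ha : (a : A) * a = a + 1) (ρ : X →* Aˣ)
    (hρ : Function.Injective ρ) (sb : MulAut X) (heq : ∀ x, a * ρ x * a⁻¹ = ρ (sb x))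
    (hcube : ∀ x, sb (sb (sb x)) = x) (h3 : ¬ 3 ∣ Nat.card X) (hO : Cfsg.pCore 2 X = ⊥) (x : X) :
    sb x = x := by
  haveI : Fact (Nat.Prime 2) := ⟨Nat.prime_two⟩
  set N := Cfsg.pPrimeCore 2 X with hN
  haveI : N.Normal := Cores.pPrimeCore_normal 2 _
  haveI : Finite (N.map ρ) := Finite.of_surjective _ (ρ.subgroupMap_surjective N)
  haveI : Group.IsSolvable (N.map ρ) :=
    Group.isSolvable_of_surjective (ρ.subgroupMap_surjective N)
  have hcop : (Nat.card (N.map ρ)).Coprime 6 := by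
    refine Nat.Coprime.coprime_dvd_left (Subgroup.card_map_dvd N ρ) ?_
    exact (Cores.coprime_card_pPrimeCore (G := X) 2).mul_right
      ((Nat.prime_three.coprime_iff_not_dvd).2 (not_three_dvd_of_le h3 N)).symm
  have hNfix : ∀ n ∈ N, sb n = n := fun n hn => by
    refine hρ ?_
    rw [← heq n, commute_of_quadratic h2 ha (N.map ρ) hcop ?_ (ρ n) ⟨n, hn, rfl⟩, mul_inv_cancel_right]
    rintro _ ⟨m, hm, rfl⟩
    rw [heq m]
    exact ⟨_, inv_of_characteristic N sb m hm, rfl⟩
  have hCN : Subgroup.centralizer (N : Set X) ≤ N := by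
    have h1 := Solvable.centralizer_piCore_le (G := X) (π := ({2} : Set ℕ)ᶜ)
      (Solvable.isPiSeparable_of_isSolvable _) (by rw [compl_compl, ← Cores.pCore_eq_piCore]; exact hO)
    rwa [Solvable.piCore_compl_singleton_eq_pPrimeCore] at h1
  have hm : x⁻¹ * sb x ∈ N := hCN (Subgroup.mem_centralizer_iff.2 fun n hn => by
    have e1 := hNfix _ ((inferInstance : N.Normal).conj_mem n hn x)
    rw [map_mul, map_mul, map_inv, hNfix n hn] at e1
    calc n * (x⁻¹ * sb x) = x⁻¹ * (x * n * x⁻¹) * sb x := by simp [mul_assoc]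
      _ = x⁻¹ * (sb x * n * (sb x)⁻¹) * sb x := by rw [e1]
      _ = x⁻¹ * sb x * n := by simp [mul_assoc])
  have hn := hNfix _ hm
  generalize hd : x⁻¹ * sb x = d at hm hn
  have e : sb x = x * d := by rw [← hd, mul_inv_cancel_left]
  have hd3 : d ^ 3 = 1 := by
    have h' := hcube x
    rw [e, map_mul, e, hn, map_mul, map_mul, e, hn, mul_assoc, mul_assoc, mul_eq_left] at h'
    rw [pow_succ', pow_two]; exact h'
  have hd1 : d = 1 := orderOf_eq_one_iff.1 (Nat.eq_one_of_dvd_coprimes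
    ((Nat.prime_three.coprime_iff_not_dvd).2 h3) (orderOf_dvd_of_pow_eq_one hd3) (orderOf_dvd_natCard d))
  rw [e, hd1, mul_one]

/-- The core of the argument: `s` centralises `G / O_2(G)` when `O_{2'}(G) = 1`. -/
theorem Hyp.fixed_mod_pCore [Finite G] [Group.IsSolvable G] (h : Hyp s t) (h3 : ¬ 3 ∣ Nat.card G)
    (hO : Cfsg.pPrimeCore 2 G = ⊥) (g : G) :
    (s g : G ⧸ Cfsg.pCore 2 G) = g := by
  haveI : Fact (Nat.Prime 2) := ⟨Nat.prime_two⟩
  set V := Cfsg.pCore 2 G with hVdef
  have hVs : Inv s V := inv_of_characteristic V s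
  have hV2 : IsPGroup 2 V := Cores.isPGroup_pCore 2 G
  haveI := isMulCommutative_frattini_quotient hV2
  let Φ : MulAut V →* (AddMonoid.End (Additive (↥V ⧸ frattini ↥V)))ˣ := endFrattini.toHomUnits
  let ρ : G →* (AddMonoid.End (Additive (↥V ⧸ frattini ↥V)))ˣ := Φ.comp MulAut.conjNormal
  let a := Φ (restrictAut s hVs)
  have hequiv : ∀ x, a * ρ x * a⁻¹ = ρ (s x) := fun x => by
    rw [mul_inv_eq_iff_eq_mul]
    show Φ _ * Φ _ = Φ _ * Φ _
    rw [← map_mul, ← map_mul]
    refine congrArg Φ (MulEquiv.ext fun v => Subtype.ext ?_)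
    show s (x * (v : G) * x⁻¹) = s x * s v * (s x)⁻¹
    rw [map_mul, map_mul, map_inv]
  have hker : ρ.ker ≤ V := fun x hx => by
    refine HallHigman.mem_pCore_of_commutator_mem_frattini
      (Solvable.centralizer_pCore_le_of_isSolvable hO) fun v hv => ?_
    have e := congrArg (fun u => (Units.val u) (Additive.ofMul ((⟨v, hv⟩ : V) : ↥V ⧸ frattini ↥V)))
      (MonoidHom.mem_ker.1 hx)
    have e' : ((MulAut.conjNormal x ⟨v, hv⟩ : V) : ↥V ⧸ frattini ↥V) = ((⟨v, hv⟩ : V) : ↥V ⧸ frattini ↥V) :=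
      Additive.ofMul.injective e
    have hm := (inferInstance : (frattini ↥V).Normal).mem_comm (QuotientGroup.eq.1 e'.symm)
    exact ⟨_, hm, rfl⟩
  have hVker : V ≤ ρ.ker := fun x hx => by
    refine MonoidHom.mem_ker.2 (Units.ext (AddMonoidHom.ext fun w => ?_))
    obtain ⟨v, hv⟩ := QuotientGroup.mk_surjective (Additive.toMul w)
    obtain rfl : w = Additive.ofMul (v : ↥V ⧸ frattini ↥V) := by rw [hv]; rfl
    refine congrArg Additive.ofMul ?_
    show ((MulAut.conjNormal x v : V) : ↥V ⧸ frattini ↥V) = v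
    have e : MulAut.conjNormal x v = ⟨x, hx⟩ * v * (⟨x, hx⟩ : V)⁻¹ := Subtype.ext rfl
    rw [e, QuotientGroup.mk_mul, QuotientGroup.mk_mul, QuotientGroup.mk_inv,
      mul_right_comm, mul_inv_cancel, one_mul]
  let ρ' : G ⧸ V →* (AddMonoid.End (Additive (↥V ⧸ frattini ↥V)))ˣ := QuotientGroup.lift V ρ hVker
  have hρ' : Function.Injective ρ' := by
    rw [← MonoidHom.ker_eq_bot_iff, eq_bot_iff]
    intro q hq
    obtain ⟨x, rfl⟩ := QuotientGroup.mk_surjective q
    exact Subgroup.mem_bot.2 ((QuotientGroup.eq_one_iff x).2 (hker hq))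
  have h2 : ∀ z : AddMonoid.End (Additive (↥V ⧸ frattini ↥V)), z + z = 0 := fun z =>
    AddMonoidHom.ext fun w => by
      show z w + z w = 0
      generalize z w = w
      obtain ⟨v, hv⟩ := QuotientGroup.mk_surjective (Additive.toMul w)
      obtain rfl : w = Additive.ofMul (v : ↥V ⧸ frattini ↥V) := by rw [hv]; rfl
      refine congrArg Additive.ofMul (((QuotientGroup.eq_one_iff (v * v)).2 ?_) : _)
      rw [← pow_two]; exact PGroup.pow_mem_frattini hV2 v
  have ha : (a : AddMonoid.End (Additive (↥V ⧸ frattini ↥V))) * a = a + 1 := by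
    refine (add_eq_zero_iff_of_char h2).1 (AddMonoidHom.ext fun w => ?_)
    obtain ⟨v, hv⟩ := QuotientGroup.mk_surjective (Additive.toMul w)
    obtain rfl : w = Additive.ofMul (v : ↥V ⧸ frattini ↥V) := by rw [hv]; rfl
    refine congrArg Additive.ofMul (?_ : ((restrictAut s hVs (restrictAut s hVs v) : V) : ↥V ⧸ frattini ↥V) *
      (((restrictAut s hVs v : V) : ↥V ⧸ frattini ↥V) * (v : ↥V ⧸ frattini ↥V)) = 1)
    set r := restrictAut s hVs with hr
    have h3V : ¬ 3 ∣ Nat.card ↥(frattini ↥V) :=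
      not_three_dvd_of_le (not_three_dvd_of_le h3 V) _
    have hr3 : ∀ u : V, r (r (r u)) = u := fun u => Subtype.ext (h.cube u)
    have hfix : ((r (r (r v) * (r v * v)) : V) : ↥V ⧸ frattini ↥V) = ((r (r v) * (r v * v) : V) : ↥V ⧸ frattini ↥V) := by
      rw [map_mul, map_mul, hr3]
      simp only [QuotientGroup.mk_mul]
      rw [Std.Commutative.comm (op := (· * · : (↥V ⧸ frattini ↥V) → _ → _)), mul_assoc]
    obtain ⟨c, hc, hcv⟩ := exists_fixed_lift hr3 (frattini ↥V) (inv_of_characteristic _ r) h3V hfix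
    rw [← QuotientGroup.mk_mul, ← QuotientGroup.mk_mul, ← hcv]
    have hc1 : (c : G) = 1 := by
      by_contra hne
      obtain ⟨k, hk⟩ := IsPGroup.iff_orderOf.1 hV2 c
      refine h.not_two_dvd (congrArg Subtype.val hc) ?_
      rw [Subgroup.orderOf_coe, hk]
      refine dvd_pow_self 2 fun hk0 => hne ?_
      rw [hk0, pow_zero, orderOf_eq_one_iff] at hk
      rw [hk, OneMemClass.coe_one]
    rw [show c = 1 from Subtype.ext hc1, QuotientGroup.mk_one]
  refine fixed_of_faithful h2 a ha ρ' hρ' (quotAut s V hVs) (fun x => ?_) (fun x => ?_)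
    (not_three_dvd_quotient h3 V) (Cores.pCore_quotient_self 2 G) (g : G ⧸ V)
  · obtain ⟨y, rfl⟩ := QuotientGroup.mk_surjective x
    exact hequiv y
  · obtain ⟨y, rfl⟩ := QuotientGroup.mk_surjective x
    exact congrArg _ (h.cube y)

/-- The structure of a solvable group with such an action. -/
theorem Hyp.structure_of_solvable [Finite G] [Group.IsSolvable G] (h : Hyp s t) (h3 : ¬ 3 ∣ Nat.card G) :
    ¬ 2 ∣ (Cfsg.pPrimePCore 2 G).index ∧
      Cfsg.pPrimePCore 2 G ⊔ Subgroup.closure {g : G | s g = g} = ⊤ := by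
  haveI : Fact (Nat.Prime 2) := ⟨Nat.prime_two⟩
  set O := Cfsg.pPrimeCore 2 G with hO
  haveI : O.Normal := Cores.pPrimeCore_normal 2 G
  set P := Cfsg.pPrimePCore 2 G with hP
  have hOs : Inv s O := inv_of_characteristic O s
  have hPs : Inv s P := fun x hx => by
    show quotAut s O hOs x ∈ Cfsg.pCore 2 (G ⧸ O)
    exact inv_of_characteristic _ _ _ hx
  have hfix : ∀ g : G, (s g : G ⧸ P) = g := fun g => by
    have h1 := (h.quot h3 O hOs (inv_of_characteristic O t)).fixed_mod_pCore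
      (not_three_dvd_quotient h3 O) (Cores.pPrimeCore_quotient_self 2) (g : G ⧸ O)
    rw [QuotientGroup.eq] at h1 ⊢
    exact h1
  have hlift : ∀ g : G, ∃ c : G, s c = c ∧ (c : G ⧸ P) = g := fun g =>
    exists_fixed_lift h.cube P hPs (not_three_dvd_of_le h3 P) (hfix g)
  refine ⟨fun hd => ?_, eq_top_iff.2 fun g _ => ?_⟩
  · obtain ⟨x, hx⟩ := exists_prime_orderOf_dvd_card' (G := G ⧸ P) 2 (by rwa [Subgroup.index] at hd)
    obtain ⟨g, rfl⟩ := QuotientGroup.mk_surjective x
    obtain ⟨c, hc, hcg⟩ := hlift g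
    exact h.not_two_dvd hc ((dvd_of_eq (hx.symm.trans (congrArg orderOf hcg.symm))).trans (orderOf_map_dvd (QuotientGroup.mk' P) c))
  · obtain ⟨c, hc, hcg⟩ := hlift g
    have h1 : c⁻¹ * g ∈ P := QuotientGroup.eq.1 hcg
    have := Subgroup.mul_mem _ (Subgroup.mem_sup_right (S := P) (Subgroup.subset_closure hc :
      c ∈ Subgroup.closure {g : G | s g = g})) (Subgroup.mem_sup_left h1)
    rwa [mul_inv_cancel_left] at this

end Cfsg.Agent.ThreePrimeSimple
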