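import Cfsg.Agent.Lib.ThreePrimeSimple.Act
import Cfsg.Agent.Lib.Solvable.Basic
import Cfsg.Agent.Lib.OddOrderTheorem.Basic
import Cfsg.Agent.Lib.Suzuki.Solubilizer
import Cfsg.Agent.Lib.Suzuki.LieModel
import Cfsg.Agent.Lib.Suzuki.BigSubgroup

/-!
# Solubility of 3'-groups with a fixed-point-free `S₃` (owner: helper60)

* `Hyp.isSolvable` : given that the simple groups of order prime to 3 are Suzuki groups, a group of order
  prime to 3 with a fixed-point-free `S₃` is solvable.
-/

set_option autoImplicit false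
set_option linter.style.haveILetI false

namespace Cfsg.Agent.ThreePrimeSimple

open Subgroup FpfControl
open scoped Pointwise

universe u

/-- The simple groups of order prime to 3 are Suzuki groups. -/
def SuzukiOnly : Prop :=
  ∀ (X : Type u) [Group X] [Finite X] [IsSimpleGroup X], (∃ a b : X, a * b ≠ b * a) →
    ¬ 3 ∣ Nat.card X → Cfsg.Lie.IsoSuzuki X

theorem suzuki_fixed_involution {X : Type u} [Group X] [Finite X] (hX : Cfsg.Lie.IsoSuzuki X)
    (h3 : ¬ 3 ∣ Nat.card X) (r : MulAut X) (hr : ∀ x, r (r (r x)) = x) :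
    ∃ y : X, orderOf y = 2 ∧ r y = y := by
  classical
  obtain ⟨F, _, _, m, hm, hF, ⟨e⟩⟩ := hX
  let eS : X ≃* Cfsg.Sz F m := e.trans (Suzuki.lieEquiv (F := F) hm hF).symm
  let z : X := eS.symm (Suzuki.tSz hF 0 1)
  have hz : orderOf z = 2 := by
    rw [MulEquiv.orderOf_eq]; exact Suzuki.orderOf_tSz_zero hm hF one_ne_zero
  have hset : {y : X | orderOf y = 2} = MulAction.orbit (ConjAct X) z := by
    ext y
    rw [Set.mem_ofPred_eq, ConjAct.mem_orbit_conjAct]
    refine ⟨fun hy => ?_, fun hy => ?_⟩
    · have h := (Suzuki.isConj_invol hm hF (b := (1 : F)) one_ne_zero (y := eS y)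
        (by rw [MulEquiv.orderOf_eq]; exact hy))
      have h' := eS.symm.toMonoidHom.map_isConj h
      simp only [MulEquiv.toMonoidHom_eq_coe, MonoidHom.coe_coe, MulEquiv.symm_apply_apply] at h'
      exact h'.symm
    · obtain ⟨c, hc⟩ := isConj_iff.1 hy.symm
      rw [← hc, ← MulAut.conj_apply, MulEquiv.orderOf_eq, hz]
  have hdvd : Nat.card {y : X // orderOf y = 2} ∣ Nat.card X := by
    have : Nat.card {y : X // orderOf y = 2} = (MulAction.stabilizer (ConjAct X) z).index := by
      rw [MulAction.index_stabilizer, ← hset]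
      rfl
    rw [this, ← Nat.card_congr (ConjAct.toConjAct (G := X)).toEquiv.symm]
    exact Subgroup.index_dvd_card _
  let σ : Equiv.Perm {y : X // orderOf y = 2} :=
    { toFun := fun y => ⟨r y, (MulEquiv.orderOf_eq r (y : X)).trans y.2⟩
      invFun := fun y => ⟨r (r y), ((MulEquiv.orderOf_eq r _).trans (MulEquiv.orderOf_eq r (y : X))).trans y.2⟩
      left_inv := fun y => Subtype.ext (hr y)
      right_inv := fun y => Subtype.ext (hr y) }
  haveI : Fact (Nat.Prime 3) := ⟨Nat.prime_three⟩
  haveI : Fintype {y : X // orderOf y = 2} := Fintype.ofFinite _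
  obtain ⟨⟨y, hy⟩, hfix⟩ := Equiv.Perm.exists_fixed_point_of_prime (p := 3) (n := 1)
    (fun hd => h3 (dvd_trans (by rwa [Nat.card_eq_fintype_card]) hdvd)) (σ := σ)
    (Equiv.ext fun y => Subtype.ext (hr y))
  exact ⟨y, hy, congrArg Subtype.val hfix⟩

theorem isSolvable_aux (hC : SuzukiOnly.{u}) (n : ℕ) :
    ∀ (G : Type u) [Group G] [Finite G], Nat.card G ≤ n → ¬ 3 ∣ Nat.card G →
      ∀ s t : MulAut G, Hyp s t → Group.IsSolvable G := by
  induction n with
  | zero => intro G _ _ hn; exact absurd (Nat.card_pos (α := G)) (by omega)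
  | succ n ih =>
    intro G _ _ hn h3 s t h
    by_contra hns
    -- no proper invariant normal subgroup
    have hinv : ∀ N : Subgroup G, N.Normal → Inv s N → Inv t N → N ≠ ⊥ → N = ⊤ := by
      intro N hN hs ht hbot
      by_contra htop
      have hprod := Subgroup.card_eq_card_quotient_mul_card_subgroup N
      have h1 : 2 ≤ Nat.card N := N.one_lt_card_iff_ne_bot.2 hbot
      have h2 : 2 ≤ Nat.card (G ⧸ N) := Subgroup.one_lt_index_of_ne_top htop
      haveI := ih N (by nlinarith) (not_three_dvd_of_le h3 N) _ _ (h.restrict hs ht)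
      haveI := ih (G ⧸ N) (by nlinarith) (not_three_dvd_quotient h3 N) _ _ (h.quot h3 N hs ht)
      exact hns (Group.isSolvable_of_ker_le_range N.subtype (QuotientGroup.mk' N)
        (by rw [QuotientGroup.ker_mk', Subgroup.range_subtype]))
    haveI : Nontrivial G := by
      by_contra hnt
      rw [not_nontrivial_iff_subsingleton] at hnt
      exact hns inferInstance
    obtain ⟨M, hMn, hMne, -, hMmin⟩ :=
      Solvable.exists_minimal_normal (G := G) (N := ⊤) top_ne_bot
    haveI := hMn
    have hMC : ∀ θ : MulAut G, M.map θ.toMonoidHom = M ∨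
        M.map θ.toMonoidHom ≤ Subgroup.centralizer (M : Set G) := by
      intro θ
      haveI hn' : (M.map θ.toMonoidHom).Normal := hMn.map _ θ.surjective
      rcases hMmin (M.map θ.toMonoidHom ⊓ M) inferInstance inf_le_right with e | e
      · refine Or.inr fun x hx => Subgroup.mem_centralizer_iff.2 fun y hy => ?_
        exact (Subgroup.commute_of_normal_of_disjoint _ _ hn' hMn (disjoint_iff.2 e) x y hx hy).symm
      · refine Or.inl (Subgroup.eq_of_le_of_card_ge (inf_eq_right.1 e) ?_).symm
        rw [Nat.card_congr (M.equivMapOfInjective θ.toMonoidHom θ.injective).toEquiv]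
    let Sg : Subgroup (MulAut G) := Subgroup.closure {s, t}
    let I : Subgroup G := ⨆ θ : Sg, M.map (θ : MulAut G).toMonoidHom
    haveI hIn : I.Normal := by
      refine ⟨fun x hx g => ?_⟩
      have : I.map (MulAut.conj g).toMonoidHom ≤ I := by
        rw [Subgroup.map_iSup]
        refine iSup_le fun θ => le_trans ?_
          (le_iSup (fun θ : Sg => M.map (θ : MulAut G).toMonoidHom) θ)
        rintro _ ⟨y, hy, rfl⟩
        exact (hMn.map _ (θ : MulAut G).surjective).conj_mem y hy g
      exact this ⟨x, hx, rfl⟩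
    have hIinv : ∀ r ∈ Sg, Inv r I := fun r hr => by
      have : I.map r.toMonoidHom ≤ I := by
        rw [Subgroup.map_iSup]
        refine iSup_le fun θ => le_trans (le_of_eq ?_)
          (le_iSup (fun θ : Sg => M.map (θ : MulAut G).toMonoidHom) (⟨r, hr⟩ * θ))
        rw [Subgroup.map_map]
        rfl
      exact fun x hx => this ⟨x, hx, rfl⟩
    have hM1 : M ≤ M.map ((1 : Sg) : MulAut G).toMonoidHom := fun x hx => ⟨x, hx, rfl⟩
    have hMI : M ≤ I := le_trans hM1 (le_iSup (fun θ : Sg => M.map (θ : MulAut G).toMonoidHom) 1)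
    have hItop : I = ⊤ := hinv I hIn (hIinv s (Subgroup.subset_closure (by simp)))
      (hIinv t (Subgroup.subset_closure (by simp))) (fun e => hMne (le_bot_iff.1 (e ▸ hMI)))
    have hMCtop : M ⊔ Subgroup.centralizer (M : Set G) = ⊤ := by
      rw [eq_top_iff, ← hItop]
      exact iSup_le fun θ => (hMC θ).elim (fun e => e.le.trans le_sup_left) (fun e => e.trans le_sup_right)
    -- `M` is not abelian
    have hMna : ∃ a b : M, a * b ≠ b * a := by
      by_contra hab
      push Not at hab
      have hMle : M ≤ Subgroup.centralizer (M : Set G) := fun x hx =>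
        Subgroup.mem_centralizer_iff.2 fun y hy => congrArg Subtype.val (hab ⟨y, hy⟩ ⟨x, hx⟩)
      rw [sup_eq_right.2 hMle] at hMCtop
      have hMZ : M ≤ Subgroup.center G := fun x hx => Subgroup.mem_center_iff.2 fun g =>
        (Subgroup.mem_centralizer_iff.1 (hMCtop.ge (Subgroup.mem_top g)) x hx).symm
      have hIZ : I ≤ Subgroup.center G := iSup_le fun θ => by
        rintro _ ⟨z, hz, rfl⟩
        refine Subgroup.mem_center_iff.2 fun g => ?_
        obtain ⟨g', rfl⟩ := (θ : MulAut G).surjective g
        show (θ : MulAut G) g' * (θ : MulAut G) z = (θ : MulAut G) z * (θ : MulAut G) g'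
        rw [← map_mul, ← map_mul, Subgroup.mem_center_iff.1 (hMZ hz) g']
      exact hns (Group.isSolvable_of_comm fun a b =>
        ((Subgroup.mem_center_iff.1 (hIZ (hItop.ge (Subgroup.mem_top a)))) b).symm)
    -- `M` is simple
    haveI : Nontrivial M := M.nontrivial_iff_ne_bot.2 hMne
    haveI hMsimple : IsSimpleGroup M := ⟨fun K hK => by
      have hKn : (K.map M.subtype).Normal := by
        refine ⟨fun x hx g => ?_⟩
        obtain ⟨a, ha, b, hb, rfl⟩ :=
          Subgroup.mem_sup_of_normal_left.1 (hMCtop.ge (Subgroup.mem_top g))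
        obtain ⟨⟨k, hkM⟩, hk, rfl⟩ := hx
        have hbk : k * b = b * k := Subgroup.mem_centralizer_iff.1 hb k hkM
        refine ⟨⟨a, ha⟩ * ⟨k, hkM⟩ * ⟨a, ha⟩⁻¹, hK.conj_mem _ hk _, ?_⟩
        show a * k * a⁻¹ = a * b * k * (a * b)⁻¹
        rw [mul_assoc a b k, ← hbk]; simp [mul_assoc]
      rcases hMmin _ hKn (Subgroup.map_subtype_le K) with e | e
      · exact Or.inl ((Subgroup.map_eq_bot_iff_of_injective K M.subtype_injective).1 e)
      · refine Or.inr (Subgroup.eq_top_of_card_eq K ?_)
        rw [← Cores.card_map_subtype M K, e]⟩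
    have h3M : ¬ 3 ∣ Nat.card M := not_three_dvd_of_le h3 M
    have hMS := hC M hMna h3M
    by_cases hsM : M.map s.toMonoidHom = M
    · have hMi : Inv s M := inv_of_map_eq hsM
      obtain ⟨y, hy, hfix⟩ := suzuki_fixed_involution hMS h3M (restrictAut s hMi)
        (fun x => Subtype.ext (h.cube x))
      exact h.not_two_dvd (congrArg Subtype.val hfix) (by rw [Subgroup.orderOf_coe, hy])
    -- three commuting conjugates
    obtain ⟨y, hy, -⟩ := suzuki_fixed_involution hMS h3M 1 (fun x => rfl)
    have hC1 := (hMC s).resolve_left hsM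
    have hC2 : M.map (s * s).toMonoidHom ≤ Subgroup.centralizer (M : Set G) := (hMC (s * s)).resolve_left
      fun e => hsM (by
        conv_lhs => rw [← e, Subgroup.map_map]
        rw [← Subgroup.map_id M, Subgroup.map_map]
        exact congrArg (fun f => M.map f) (MonoidHom.ext fun x => h.cube x))
    obtain ⟨x, hxM⟩ := y
    have h1 : s x ∈ Subgroup.centralizer (M : Set G) := hC1 ⟨x, hxM, rfl⟩
    have h2 : s (s x) ∈ Subgroup.centralizer (M : Set G) := hC2 ⟨x, hxM, rfl⟩
    have hc1 : Commute x (s x) := Subgroup.mem_centralizer_iff.1 h1 x hxM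
    have hc2 : Commute x (s (s x)) := Subgroup.mem_centralizer_iff.1 h2 x hxM
    have hc3 : Commute (s x) (s (s x)) := hc1.map s
    have hx2 : x * x = 1 := by
      have := congrArg Subtype.val (pow_orderOf_eq_one (⟨x, hxM⟩ : M))
      rw [hy] at this
      simpa [pow_two] using this
    have hfix : s (x * (s x * s (s x))) = x * (s x * s (s x)) := by
      rw [map_mul, map_mul, h.cube, ← mul_assoc]
      exact ((hc1.mul_right hc2).symm).eq
    have hsq : x * (s x * s (s x)) * (x * (s x * s (s x))) = 1 := by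
      have hA : (s x * s (s x)) * (s x * s (s x)) = 1 := by
        rw [hc3.symm.mul_mul_mul_comm]
        simp only [← map_mul, hx2, map_one, mul_one]
      rw [(hc1.mul_right hc2).symm.mul_mul_mul_comm, hx2, hA, one_mul]
    have hprod := h.eq_one_of_sq hfix hsq
    have hxC : x ∈ Subgroup.centralizer (M : Set G) := by
      rw [eq_inv_of_mul_eq_one_left hprod]
      exact inv_mem (mul_mem h1 h2)
    have hxZ : (⟨x, hxM⟩ : M) ∈ Subgroup.center M := Subgroup.mem_center_iff.2 fun q =>
      Subtype.ext (Subgroup.mem_centralizer_iff.1 hxC q q.2)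
    rcases (inferInstance : (Subgroup.center M).Normal).eq_bot_or_eq_top with e | e
    · rw [e, Subgroup.mem_bot] at hxZ
      rw [hxZ, orderOf_one] at hy
      omega
    · obtain ⟨a, b, hab⟩ := hMna
      exact hab (Subgroup.mem_center_iff.1 (e.ge (Subgroup.mem_top b)) a)

/-- A group of order prime to 3 with a fixed-point-free `S₃` is solvable, given `SuzukiOnly`. -/
theorem Hyp.isSolvable (hC : SuzukiOnly.{u}) {G : Type u} [Group G] [Finite G] (h3 : ¬ 3 ∣ Nat.card G)
    {s t : MulAut G} (h : Hyp s t) : Group.IsSolvable G :=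
  isSolvable_aux hC _ G le_rfl h3 s t h

end Cfsg.Agent.ThreePrimeSimple
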