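import Cfsg.Agent.EqLemmas
import Mathlib.GroupTheory.Solvable
import Mathlib.Algebra.Ring.Subring.Basic

/-!
# A unit satisfying `a² + a + 1 = 0` in characteristic two (owner: helper60)

* `commute_of_quadratic` : if such a unit normalises a solvable group of units of order prime to 6,
  it centralises it.
-/

set_option autoImplicit false

namespace Cfsg.Agent.ThreePrimeSimple

variable {A : Type*} [Ring A]

theorem pow_eq_one_of_coprime {M : Type*} [Monoid M] {x : M} {n m : ℕ} (hn : x ^ n = 1)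
    (hm : x ^ m = 1) (h : n.Coprime m) : x = 1 := by
  have := (pow_gcd_eq_one (a := x) (m := n) (n := m)).2 ⟨hn, hm⟩
  rwa [h.gcd_eq_one, pow_one] at this

theorem comm_key {C : Type*} [CommRing C] (h2 : (2 : C) = 0) {x y i j : C} (hxi : x * i = 1)
    (hyj : y * j = 1) (hz : y + j = x + i) (hxy : x * y + i * j = x + i) : x ^ 24 = 1 := by
  have h1 : (x + i) ^ 3 + (x + i) ^ 2 = 0 := by grind
  have h3 : (x ^ 4 + 1) * (x ^ 2 + x + 1) = 0 := by
    have : (x ^ 2 + 1) ^ 2 * (x ^ 2 + x + 1) = x ^ 3 * ((x + i) ^ 3 + (x + i) ^ 2) := by grind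
    rw [h1, mul_zero] at this
    grind
  have h4 : (x ^ 12 + 1) * (x ^ 12 + 1) = 0 := by
    have e1 : x ^ 12 + 1 = (x ^ 4 + 1) * (x ^ 8 + x ^ 4 + 1) := by grind
    have e2 : x ^ 12 + 1 = (x ^ 2 + x + 1) * ((x + 1) * (x ^ 9 + x ^ 6 + x ^ 3 + 1)) := by grind
    calc (x ^ 12 + 1) * (x ^ 12 + 1)
        = (x ^ 4 + 1) * (x ^ 2 + x + 1) *
          ((x ^ 8 + x ^ 4 + 1) * ((x + 1) * (x ^ 9 + x ^ 6 + x ^ 3 + 1))) := by
          conv_lhs => arg 1; rw [e1]
          conv_lhs => arg 2; rw [e2]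
          ring
      _ = 0 := by rw [h3, zero_mul]
  grind

theorem add_eq_zero_iff_of_char (h2 : ∀ z : A, z + z = 0) {u v : A} : u + v = 0 ↔ u = v :=
  ⟨fun h => by rw [← add_zero u, ← h2 v, ← add_assoc, h, zero_add], fun h => h ▸ h2 u⟩

theorem inv_eq_add_one (h2 : ∀ z : A, z + z = 0) {a : Aˣ} (ha : (a : A) * a = a + 1) :
    ((a⁻¹ : Aˣ) : A) = a + 1 :=
  Units.inv_eq_of_mul_eq_one_right (by
    rw [mul_add, ha, mul_one, add_assoc, add_comm (1 : A), ← add_assoc, h2, zero_add])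

theorem cube_eq_one (h2 : ∀ z : A, z + z = 0) {a : Aˣ} (ha : (a : A) * a = a + 1) : a ^ 3 = 1 := by
  refine Units.ext ?_
  rw [Units.val_pow_eq_pow_val, Units.val_one, pow_succ, pow_two, ha, add_mul, ha, one_mul,
    add_assoc, add_comm (1 : A), ← add_assoc, h2, zero_add]

theorem quad_key (h2 : ∀ z : A, z + z = 0) {a b : Aˣ} (ha : (a : A) * a = a + 1)
    (hb : (b : A) * b = b + 1) {x y c : Aˣ} (hx : x = a * b⁻¹) (hy : y = a * x * a⁻¹)
    (hc : c = x * y * x⁻¹ * y⁻¹) (hcy : Commute c y) (hca : Commute c a) {n : ℕ}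
    (hn : n.Coprime 6) (hxn : x ^ n = 1) (hcn : c ^ n = 1) : x = 1 := by
  have hne : ∀ {u v : A}, u + v = 0 ↔ u = v := fun {u v} => add_eq_zero_iff_of_char h2
  have ea := inv_eq_add_one h2 ha
  have eb := inv_eq_add_one h2 hb
  obtain ⟨z, hz⟩ : ∃ z : A, z = (x : A) + ((x⁻¹ : Aˣ) : A) := ⟨_, rfl⟩
  have hz' : z = (a : A) * b + a + b * a + b := by
    rw [hz, hx, mul_inv_rev, inv_inv, Units.val_mul, Units.val_mul, ea, eb, mul_add, mul_add,
      mul_one, mul_one, ← add_assoc]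
  have haz : (a : A) * z = z * a := by
    rw [hz']
    have e : ∀ w : A, (a : A) * (a * w) = a * w + w := fun w => by
      rw [← mul_assoc, ha, add_mul, one_mul]
    simp only [mul_add, add_mul, mul_assoc, e, ha]
    abel_nf
    simp only [two_zsmul, h2, zero_add, add_zero, mul_one]
    abel
  have hcz : ∀ u : Aˣ, (u : A) * z = z * u →
      ((u * x * u⁻¹ : Aˣ) : A) + ((u * x⁻¹ * u⁻¹ : Aˣ) : A) = z := fun u hu => by
    simp only [Units.val_mul, ← add_mul, ← mul_add, ← hz, hu]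
    rw [mul_assoc, Units.mul_inv, mul_one]
  have hy' : y⁻¹ = a * x⁻¹ * a⁻¹ := by rw [hy, mul_inv_rev, mul_inv_rev, inv_inv, mul_assoc]
  have hzy : (y : A) + ((y⁻¹ : Aˣ) : A) = z := by rw [hy', hy]; exact hcz a haz
  -- the relation coming from conjugation by `x`
  have hxz : (x : A) * z = z * x := by
    rw [hz, mul_add, add_mul, Units.mul_inv, Units.inv_mul]
  have h1 : ((c * y : Aˣ) : A) + (((c * y)⁻¹ : Aˣ) : A) = y + ((y⁻¹ : Aˣ) : A) := by
    have e : c * y = x * y * x⁻¹ := by rw [hc, inv_mul_cancel_right]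
    rw [e, show (x * y * x⁻¹)⁻¹ = x * y⁻¹ * x⁻¹ by simp [mul_assoc], hzy]
    simp only [Units.val_mul, ← add_mul, ← mul_add, hzy, hxz]
    rw [mul_assoc, Units.mul_inv, mul_one]
  -- `(c + 1) (c w² + 1) = 0` for `w = y, x`
  have hEy : ((c : A) + 1) * ((c : A) * (y * y) + 1) = 0 := by
    have h := congrArg (fun w : A => ((c * y : Aˣ) : A) * w) h1
    simp only [mul_add, Units.mul_inv] at h
    rw [← hne] at h
    have e1 : ((c * y : Aˣ) : A) * ((y⁻¹ : Aˣ) : A) = c := by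
      rw [Units.val_mul, mul_assoc, Units.mul_inv, mul_one]
    rw [e1] at h
    rw [← h]
    simp only [Units.val_mul, mul_add, add_mul, one_mul, mul_one]
    have e2 : (y : A) * c = c * y := congrArg Units.val hcy.eq.symm
    rw [show (c : A) * y * (c * y) = c * (c * (y * y)) by rw [mul_assoc, ← mul_assoc (y : A), e2, mul_assoc]]
    rw [show (c : A) * y * y = c * (y * y) by rw [mul_assoc]]
    abel
  have hxy : x = a⁻¹ * y * a := by rw [hy]; simp [mul_assoc]
  have hEx : ((c : A) + 1) * ((c : A) * (x * x) + 1) = 0 := by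
    have hac : (c : A) * ((a⁻¹ : Aˣ) : A) = ((a⁻¹ : Aˣ) : A) * c :=
      congrArg Units.val hca.inv_right.eq
    have h := congrArg (fun w : A => ((a⁻¹ : Aˣ) : A) * w * (a : A)) hEy
    simp only [mul_zero, zero_mul] at h
    have hac' : ∀ w : A, ((a⁻¹ : Aˣ) : A) * ((c : A) * w) = (c : A) * (((a⁻¹ : Aˣ) : A) * w) :=
      fun w => by rw [← mul_assoc, ← hac, mul_assoc]
    rw [← h, hxy]
    simp only [Units.val_mul, mul_add, add_mul, one_mul, mul_one, mul_assoc, hac',
      Units.mul_inv_cancel_left, Units.inv_mul]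
  -- on the image of `c + 1` both are powers of `c`
  obtain ⟨k, hk⟩ : ∃ k, n + 1 = 2 * k := by
    have h2n : n.Coprime 2 := hn.coprime_dvd_right (by norm_num)
    rw [Nat.coprime_two_right] at h2n
    exact ⟨(n + 1) / 2, by obtain ⟨j, rfl⟩ := h2n; omega⟩
  have hcom : Commute ((c : A) + 1) ((c⁻¹ : Aˣ) : A) :=
    ((Commute.refl c).inv_right.units_val).add_left (Commute.one_left _)
  have hpow : ∀ w : Aˣ, ((c : A) + 1) * ((c : A) * (w * w) + 1) = 0 → w ^ n = 1 → Commute c (w * w) →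
      ((c : A) + 1) * w = ((c : A) + 1) * ((c⁻¹ : Aˣ) : A) ^ k := by
    intro w hw hwn hcw
    rw [mul_add, mul_one, hne] at hw
    have hw' : ((c : A) + 1) * (w * w) = ((c : A) + 1) * ((c⁻¹ : Aˣ) : A) := by
      have h := congrArg (fun v : A => ((c⁻¹ : Aˣ) : A) * v) hw
      rw [← mul_assoc, ← hcom.eq, mul_assoc, ← mul_assoc ((c⁻¹ : Aˣ) : A), Units.inv_mul, one_mul] at h
      rw [h, hcom.eq]
    have hj : ∀ j : ℕ, ((c : A) + 1) * ((w : A) * w) ^ j = ((c : A) + 1) * ((c⁻¹ : Aˣ) : A) ^ j := by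
      intro j
      induction j with
      | zero => simp
      | succ j ih =>
        rw [pow_succ, ← mul_assoc, ih, (hcom.pow_right j).eq, mul_assoc, hw', ← mul_assoc,
          ← (hcom.pow_right j).eq, mul_assoc, ← pow_succ]
    rw [← hj k, ← pow_two, ← pow_mul, ← hk, pow_succ, ← Units.val_pow_eq_pow_val, hwn, Units.val_one,
      one_mul]
  have hcx : Commute c x := by
    rw [hxy]; exact (hca.inv_right.mul_right hcy).mul_right hca
  have hyn : y ^ n = 1 := by rw [hy, conj_pow, hxn, mul_one, mul_inv_cancel]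
  have hPx := hpow x hEx hxn (hcx.mul_right hcx)
  have hPy := hpow y hEy hyn (hcy.mul_right hcy)
  have hc1 : c = 1 := by
    have e : ∀ u v : Aˣ, ((c : A) + 1) * (u : A) = ((c : A) + 1) * ((c⁻¹ : Aˣ) : A) ^ k →
        ((c : A) + 1) * (v : A) = ((c : A) + 1) * ((c⁻¹ : Aˣ) : A) ^ k →
        ((c : A) + 1) * ((u * v : Aˣ) : A) = ((c : A) + 1) * (((c⁻¹ : Aˣ) : A) ^ k * ((c⁻¹ : Aˣ) : A) ^ k) :=
      fun u v hu hv => by
        rw [Units.val_mul, ← mul_assoc, hu, (hcom.pow_right k).eq, mul_assoc, hv, ← mul_assoc,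
          ← (hcom.pow_right k).eq, mul_assoc]
    have h : ((c : A) + 1) * ((x * y : Aˣ) : A) = ((c : A) + 1) * ((y * x : Aˣ) : A) :=
      (e x y hPx hPy).trans (e y x hPy hPx).symm
    have hxyc : x * y = c * (y * x) := by rw [hc]; simp [mul_assoc]
    rw [hxyc, Units.val_mul, ← hne, ← mul_add, ← add_one_mul, ← mul_assoc,
      Units.mul_left_eq_zero] at h
    have hc2 : c * c = 1 := by
      refine Units.ext (hne.1 ?_)
      rw [← h, Units.val_mul, Units.val_one]
      simp only [mul_add, add_mul, one_mul, mul_one]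
      rw [add_assoc ((c : A) * c), ← add_assoc (c : A), h2, zero_add]
    exact pow_eq_one_of_coprime hcn (by rw [pow_two, hc2]) (hn.coprime_dvd_right (by norm_num))
  have hcomm : Commute x y := by
    have h := hc
    rw [hc1, eq_comm, mul_inv_eq_one, mul_inv_eq_iff_eq_mul] at h
    exact h
  -- the third conjugate
  have h3 : a ^ 3 = 1 := cube_eq_one h2 ha
  have h3b : (x⁻¹ * a) ^ 3 = 1 := by
    rw [hx]; simpa using cube_eq_one h2 hb
  have hthird : a * y * a⁻¹ = x⁻¹ * y⁻¹ := by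
    rw [← hcomm.inv_inv.eq.symm]
    refine inv_injective (mul_left_cancel (a := x⁻¹ * y⁻¹) ?_)
    calc x⁻¹ * y⁻¹ * (a * y * a⁻¹)⁻¹ = x⁻¹ * (a * x⁻¹ * a⁻¹) * (a * (a * x⁻¹ * a⁻¹) * a⁻¹) := by
          rw [hy]; simp [mul_assoc]
      _ = (x⁻¹ * a) ^ 3 * (a ^ 3)⁻¹ := by simp [pow_succ, mul_assoc]
      _ = x⁻¹ * y⁻¹ * (y⁻¹ * x⁻¹)⁻¹ := by
          rw [h3, h3b, inv_one, mul_one, hcomm.inv_inv.eq, mul_inv_cancel]
  have hzz : ((x * y : Aˣ) : A) + ((x⁻¹ * y⁻¹ : Aˣ) : A) = z := by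
    have h := hcz (a * a) (by rw [Units.val_mul, mul_assoc, haz, ← mul_assoc, haz, mul_assoc])
    rw [show a * a * x * (a * a)⁻¹ = a * y * a⁻¹ by rw [hy]; simp [mul_assoc],
      show a * a * x⁻¹ * (a * a)⁻¹ = (a * y * a⁻¹)⁻¹ by rw [hy]; simp [mul_assoc], hthird,
      mul_inv_rev, inv_inv, inv_inv, hcomm.symm.eq, add_comm] at h
    exact h
  -- commutative algebra
  let s : Set A := {(x : A), ((x⁻¹ : Aˣ) : A), (y : A), ((y⁻¹ : Aˣ) : A)}
  have hs : ∀ u ∈ s, ∀ v ∈ s, u * v = v * u := by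
    have key : ∀ u ∈ ({x, x⁻¹, y, y⁻¹} : Set Aˣ), ∀ v ∈ ({x, x⁻¹, y, y⁻¹} : Set Aˣ), u * v = v * u := by
      simp only [Set.mem_insert_iff, Set.mem_singleton_iff]
      rintro u (rfl | rfl | rfl | rfl) v (rfl | rfl | rfl | rfl) <;>
        first
          | rfl
          | exact hcomm.eq | exact hcomm.symm.eq
          | exact hcomm.inv_inv.eq | exact hcomm.symm.inv_inv.eq
          | exact hcomm.inv_left.eq | exact hcomm.symm.inv_left.eq
          | exact hcomm.inv_right.eq | exact hcomm.symm.inv_right.eq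
          | exact (Commute.refl _).inv_left.eq | exact (Commute.refl _).inv_right.eq
    simp only [s, Set.mem_insert_iff, Set.mem_singleton_iff] at *
    rintro u (rfl | rfl | rfl | rfl) v (rfl | rfl | rfl | rfl) <;>
      exact congrArg Units.val (key _ (by simp) _ (by simp))
  haveI := Subring.isMulCommutative_closure hs
  letI : CommRing (Subring.closure s) := { (inferInstance : Ring (Subring.closure s)) with
    mul_comm := fun u v => (this.is_comm.comm u v) }
  have hmem : ∀ {u : A}, u ∈ s → u ∈ Subring.closure s := fun {u} h => Subring.subset_closure h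
  have h24 := comm_key (C := Subring.closure s) (x := ⟨x, hmem (by simp [s])⟩)
    (y := ⟨y, hmem (by simp [s])⟩) (i := ⟨_, hmem (u := ((x⁻¹ : Aˣ) : A)) (by simp [s])⟩)
    (j := ⟨_, hmem (u := ((y⁻¹ : Aˣ) : A)) (by simp [s])⟩)
    (Subtype.ext (by
      show ((2 : Subring.closure s) : A) = 0
      rw [← one_add_one_eq_two]; exact h2 1))
    (Subtype.ext x.mul_inv) (Subtype.ext y.mul_inv) (Subtype.ext (hzy.trans hz))
    (Subtype.ext (by rw [hz] at hzz; simpa using hzz))
  have h24' : x ^ 24 = 1 := Units.ext (by simpa using congrArg Subtype.val h24)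
  exact pow_eq_one_of_coprime hxn h24' ((hn.coprime_dvd_right (by norm_num : 2 ∣ 6)).pow_right 3 |>.mul_right
    (hn.coprime_dvd_right (by norm_num : 3 ∣ 6)))

theorem commute_of_quadratic_aux (h2 : ∀ z : A, z + z = 0) {a : Aˣ} (ha : (a : A) * a = a + 1)
    (N : ℕ) : ∀ R : Subgroup Aˣ, Finite R → Nat.card R ≤ N → Group.IsSolvable R →
      (Nat.card R).Coprime 6 → (∀ r ∈ R, a * r * a⁻¹ ∈ R) → ∀ r ∈ R, a * r = r * a := by
  induction N with
  | zero => intro R _ hN; exact absurd (Nat.card_pos (α := R)) (by omega)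
  | succ N ih =>
    intro R _ hN hsol hcop hnorm
    rcases eq_or_ne R ⊥ with rfl | hR
    · intro r hr; rw [Subgroup.mem_bot.1 hr, mul_one, one_mul]
    haveI : Nontrivial R := R.nontrivial_iff_ne_bot.2 hR
    set D : Subgroup Aˣ := ⁅R, R⁆ with hD
    have hDR : D ≤ R := Subgroup.commutator_le.2 fun p hp q hq =>
      mul_mem (mul_mem (mul_mem hp hq) (inv_mem hp)) (inv_mem hq)
    have hDne : D ≠ R := by
      intro e
      have h := Group.IsSolvable.commutator_lt_top_of_nontrivial (G := R)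
      refine h.ne ?_
      apply Subgroup.map_injective R.subtype_injective
      rw [map_commutator_eq, Subgroup.range_subtype, ← MonoidHom.range_eq_map, Subgroup.range_subtype]
      exact e
    haveI : Finite D := Finite.of_injective _ (Subgroup.inclusion_injective hDR)
    have hDlt : Nat.card D < Nat.card R := lt_of_le_of_ne (Subgroup.card_le_of_le hDR) fun e =>
      hDne (Subgroup.eq_of_le_of_card_ge hDR e.ge)
    haveI := hsol
    have hDn : ∀ r ∈ D, a * r * a⁻¹ ∈ D := by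
      have : D.map (MulAut.conj a).toMonoidHom ≤ D := by
        rw [hD, Subgroup.map_commutator]
        refine Subgroup.commutator_mono ?_ ?_ <;>
          · rintro _ ⟨r, hr, rfl⟩
            exact hnorm r hr
      exact fun r hr => this ⟨r, hr, rfl⟩
    have hDc := ih D inferInstance (by omega)
      (Group.isSolvable_of_isSolvable_injective (Subgroup.inclusion_injective hDR))
      (hcop.coprime_dvd_left (Subgroup.card_dvd_of_le hDR)) hDn
    -- `D` commutes with every `[a, r]`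
    have hDx : ∀ r ∈ R, ∀ d ∈ D, Commute d (a * r * a⁻¹ * r⁻¹) := by
      intro r hr d hd
      have hda : a * d * a⁻¹ = d := by rw [hDc d hd, mul_inv_cancel_right]
      have hrd : r⁻¹ * d * r ∈ D := by
        have : D.map (MulAut.conj r⁻¹).toMonoidHom ≤ D := by
          rw [hD, Subgroup.map_commutator]
          refine Subgroup.commutator_mono ?_ ?_ <;>
            · rintro _ ⟨q, hq, rfl⟩
              exact mul_mem (mul_mem (inv_mem hr) hq) (inv_mem (inv_mem hr))
        simpa using this ⟨d, hd, rfl⟩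
      have e1 : a * (r⁻¹ * d * r) * a⁻¹ = r⁻¹ * d * r := by rw [hDc _ hrd, mul_inv_cancel_right]
      have e2 : (a * r * a⁻¹)⁻¹ * d * (a * r * a⁻¹) = r⁻¹ * d * r := by
        conv_rhs => rw [← e1]
        conv_lhs => rw [← hda]
        simp [mul_assoc]
      have e3 : d * (a * r * a⁻¹ * r⁻¹) = (a * r * a⁻¹) * ((a * r * a⁻¹)⁻¹ * d * (a * r * a⁻¹)) * r⁻¹ := by
        simp [mul_assoc]
      show d * _ = _
      rw [e3, e2]
      simp [mul_assoc]
    intro r hr
    have hb : ((r * a * r⁻¹ : Aˣ) : A) * (r * a * r⁻¹ : Aˣ) = (r * a * r⁻¹ : Aˣ) + 1 := by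
      rw [← Units.val_mul, show r * a * r⁻¹ * (r * a * r⁻¹) = r * (a * a) * r⁻¹ by simp [mul_assoc]]
      simp only [Units.val_mul, ha, mul_add, add_mul, mul_one, Units.mul_inv]
    have hxR : a * r * a⁻¹ * r⁻¹ ∈ R := mul_mem (hnorm r hr) (inv_mem hr)
    have hyR : a * (a * r * a⁻¹ * r⁻¹) * a⁻¹ ∈ R := hnorm _ hxR
    have hcD : (a * r * a⁻¹ * r⁻¹) * (a * (a * r * a⁻¹ * r⁻¹) * a⁻¹) * (a * r * a⁻¹ * r⁻¹)⁻¹ *
        (a * (a * r * a⁻¹ * r⁻¹) * a⁻¹)⁻¹ ∈ D := Subgroup.commutator_mem_commutator hxR hyR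
    have hord : ∀ q ∈ R, q ^ Nat.card R = 1 := fun q hq =>
      congrArg Subtype.val (pow_card_eq_one' (x := (⟨q, hq⟩ : R)))
    have hy_comm : Commute ((a * r * a⁻¹ * r⁻¹) * (a * (a * r * a⁻¹ * r⁻¹) * a⁻¹) * (a * r * a⁻¹ * r⁻¹)⁻¹ *
        (a * (a * r * a⁻¹ * r⁻¹) * a⁻¹)⁻¹) (a * (a * r * a⁻¹ * r⁻¹) * a⁻¹) := by
      have h := hDx (a * r * a⁻¹) (hnorm r hr) _ hcD
      convert h using 1
      simp [mul_assoc]
    have h := quad_key h2 ha hb (x := a * r * a⁻¹ * r⁻¹) (by simp [mul_assoc]) rfl rfl hy_comm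
      (hDc _ hcD).symm hcop (hord _ hxR) (hord _ (hDR hcD))
    rw [mul_inv_eq_one, mul_inv_eq_iff_eq_mul] at h
    exact h

/-- If `a² + a + 1 = 0` and `a` normalises a solvable group of units of order prime to 6, it
centralises it. -/
theorem commute_of_quadratic (h2 : ∀ z : A, z + z = 0) {a : Aˣ} (ha : (a : A) * a = a + 1)
    (R : Subgroup Aˣ) [Finite R] [Group.IsSolvable R] (hcop : (Nat.card R).Coprime 6)
    (hnorm : ∀ r ∈ R, a * r * a⁻¹ ∈ R) : ∀ r ∈ R, a * r = r * a :=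
  commute_of_quadratic_aux h2 ha _ R inferInstance le_rfl inferInstance hcop hnorm

end Cfsg.Agent.ThreePrimeSimple
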